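import Cfsg.Agent.SubA8.Main
import Cfsg.Agent.Classical.AltEight
import Cfsg.Agent.S2553

/-!
# Subgroups of index eight in the alternating group of degree eight
-/

set_option autoImplicit false
set_option linter.unusedSectionVars false
set_option linter.style.haveILetI false

namespace Cfsg.Agent.NatOver

open Subgroup Equiv

/-- The alternating group of degree `8` is simple, and a subgroup of order `2520` is `A₇`. -/
theorem alt_seven_of_card (A : Subgroup (alternatingGroup (Fin 8))) (hA : Nat.card A = 2520) :
    Nonempty (↥A ≃* alternatingGroup (Fin 7)) := by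
  classical
  have hc8 : Nat.card (alternatingGroup (Fin 8)) = 20160 := by
    rw [nat_card_alternatingGroup, Nat.card_fin]; rfl
  have hidx : A.index = 8 := by
    have h := A.card_mul_index
    rw [hA, hc8] at h
    omega
  have hAtop : A ≠ ⊤ := fun h => by rw [h, index_top] at hidx; omega
  let Q := alternatingGroup (Fin 8) ⧸ A
  haveI : Fintype Q := Fintype.ofFinite Q
  have hQc : Fintype.card Q = 8 := by rw [← Nat.card_eq_fintype_card]; exact hidx
  haveI : Nontrivial Q := Fintype.one_lt_card_iff_nontrivial.1 (by omega)
  let a : Q := ((1 : alternatingGroup (Fin 8)) : Q)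
  let f := MulAction.toPermHom (alternatingGroup (Fin 8)) Q
  have hne : f ≠ 1 := by
    intro h
    refine hAtop (A.eq_top_iff'.2 fun g => ?_)
    have h1 : g • a = a := congrArg (fun σ : Perm Q => σ a) (DFunLike.congr_fun h g)
    have h2 : g ∈ MulAction.stabilizer (alternatingGroup (Fin 8)) a := h1
    rwa [MulAction.stabilizer_quotient] at h2
  haveI : IsSimpleGroup (alternatingGroup (Fin 8)) := alternatingGroup.isSimpleGroup (by simp)
  obtain ⟨hinj, hle⟩ := Cfsg.Agent.Classical.Small.perm_rep
    (Cfsg.Agent.Classical.Small.alt_noncomm (by norm_num)) f hne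
  have hrange : f.range = alternatingGroup Q := by
    refine eq_of_le_of_card_ge hle ?_
    rw [← Nat.card_congr (MonoidHom.ofInjective hinj).toEquiv, nat_card_alternatingGroup, hc8,
      Nat.card_eq_fintype_card, hQc]
    rfl
  have hx : Fintype.card {y : Q // y ≠ a} = 7 := by
    rw [Fintype.card_subtype_compl, hQc, Fintype.card_subtype_eq]
  let ι : Fin 7 ≃ {y : Q // y ≠ a} := (Fintype.equivFinOfCardEq hx).symm
  let j : alternatingGroup (Fin 7) →* Perm Q :=
    (Perm.extendDomainHom ι).comp (alternatingGroup (Fin 7)).subtype
  have hj : Function.Injective j :=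
    (Perm.extendDomainHom_injective ι).comp (alternatingGroup (Fin 7)).subtype_injective
  have hjA : j.range ≤ A.map f := by
    rintro _ ⟨σ, rfl⟩
    have hev : j σ ∈ alternatingGroup Q := by
      rw [Perm.mem_alternatingGroup]
      show Perm.sign (Perm.extendDomain (σ : Perm (Fin 7)) ι) = 1
      rw [Perm.sign_extendDomain]
      exact Perm.mem_alternatingGroup.1 σ.2
    obtain ⟨g, hg⟩ := hrange.ge hev
    refine ⟨g, ?_, hg⟩
    have h2 : g ∈ MulAction.stabilizer (alternatingGroup (Fin 8)) a := by
      show g • a = a
      calc g • a = f g a := rfl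
        _ = j σ a := by rw [hg]
        _ = a := Perm.extendDomain_apply_not_subtype _ ι (by simp)
    rwa [MulAction.stabilizer_quotient] at h2
  have hcA : Nat.card (A.map f) = 2520 := by rw [card_map_of_injective hinj, hA]
  have hcj : Nat.card j.range = 2520 := by
    rw [← Nat.card_congr (MonoidHom.ofInjective hj).toEquiv, nat_card_alternatingGroup, Nat.card_fin]
    rfl
  have heq : j.range = A.map f := eq_of_le_of_card_ge hjA (by rw [hcA, hcj])
  exact ⟨((A.equivMapOfInjective f hinj).trans (MulEquiv.subgroupCongr heq.symm)).trans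
    (MonoidHom.ofInjective hj).symm⟩

/-- A faithful action on sixteen points of an elementary abelian group embeds in `A₈`. -/
theorem exists_alt_eight {H M : Type*} [Group H] [AddCommGroup M] [Finite M] [DistribMulAction H M]
    [FaithfulSMul H M] (hp : ∀ m : M, (2 : ℕ) • m = 0) (hc : Nat.card M = 16) :
    ∃ f : H →* alternatingGroup (Fin 8), Function.Injective f := by
  letI : Module (ZMod 2) M := AddCommGroup.zmodModule hp
  have hr : Module.finrank (ZMod 2) M = 4 := by
    have h := Module.natCard_eq_pow_finrank (K := ZMod 2) (V := M)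
    rw [hc, Nat.card_zmod, show 16 = 2 ^ 4 from rfl] at h
    exact (Nat.pow_right_injective le_rfl h).symm
  let b := Module.finBasisOfFinrankEq (ZMod 2) M hr
  let E : H →* Matrix (Fin 4) (Fin 4) (ZMod 2) :=
    { toFun := fun h => LinearMap.toMatrixAlgEquiv b
        ((DistribSMul.toAddMonoidHom M h).toZModLinearMap 2)
      map_one' := by
        rw [← map_one (LinearMap.toMatrixAlgEquiv b)]
        exact congrArg _ (LinearMap.ext fun m => one_smul H m)
      map_mul' := fun g h => by
        rw [← map_mul]
        exact congrArg _ (LinearMap.ext fun m => mul_smul g h m) }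
  have hE : Function.Injective E.toHomUnits := fun g h e => eq_of_smul_eq_smul fun m : M =>
    LinearMap.congr_fun ((LinearMap.toMatrixAlgEquiv b).injective (congrArg Units.val e)) m
  obtain ⟨e4⟩ := Cfsg.Agent.S2553.gl_to_psl (n := 4)
  obtain ⟨e8⟩ := Cfsg.Agent.Classical.L34.psl_four_two (F := ZMod 2) (by simp)
  exact ⟨(e4.trans e8).toMonoidHom.comp E.toHomUnits, (e4.trans e8).injective.comp hE⟩

end Cfsg.Agent.NatOver
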