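import Cfsg.Agent.FFStruct.LocalPerm
import Cfsg.Agent.FFStruct.OddSys

/-!
# Elementary abelian subgroups of a product of natural modules
-/

set_option autoImplicit false
set_option linter.unusedSectionVars false
set_option linter.style.haveILetI false

namespace Cfsg.Agent.NatOver

open Subgroup Matrix FFStruct
open scoped Pointwise MatrixGroups

/-- An elementary abelian `2`-group of permutations of an odd set. -/
theorem perm_sq_bound {N : ℕ} (hN : Odd N) (P : Subgroup (Equiv.Perm (Fin N)))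
    (hP : Cfsg.IsElementaryAbelian 2 P) : Nat.card P ^ 2 * 2 ≤ 2 ^ N := by
  classical
  obtain ⟨hPc, hP2⟩ := Thompson.ea_iff.1 hP
  have hcomm : ∀ x ∈ P, ∀ y ∈ P, x * y = y * x := fun x hx y hy =>
    (mem_centralizer_iff.1 (hPc hx) y hy).symm
  have hPp : IsPGroup 2 P := Thompson.ea_isPGroup hP
  obtain ⟨i₀, hi₀⟩ : ∃ i, ∀ x ∈ P, x i = i := by
    haveI : Fact (Nat.Prime 2) := ⟨Nat.prime_two⟩
    obtain ⟨i, hi⟩ := hPp.nonempty_fixed_point_of_prime_not_dvd_card (α := Fin N) (by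
      rw [Nat.card_eq_fintype_card, Fintype.card_fin]
      exact fun h => (Nat.not_even_iff_odd.2 hN) (even_iff_two_dvd.2 h))
    exact ⟨i, fun x hx => hi ⟨x, hx⟩⟩
  let Ω := MulAction.orbitRel.Quotient P (Fin N)
  let rep : Ω → Fin N := Quotient.out
  have hrep : ∀ i : Fin N, ∃ x : P, (x : Equiv.Perm (Fin N)) (rep (Quotient.mk'' i)) = i := by
    intro i
    have : (rep (Quotient.mk'' i)) ∈ MulAction.orbit P i := by
      rw [← MulAction.orbitRel_apply]; exact Quotient.mk_out (s := MulAction.orbitRel P (Fin N)) i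
    obtain ⟨x, hx⟩ := this
    exact ⟨x⁻¹, by rw [← hx]; exact inv_smul_smul x i⟩
  let c : Ω → ℕ := fun ω => Nat.card (MulAction.orbit P (rep ω))
  have hinjP : Nat.card P ≤ ∏ ω : Ω, c ω := by
    rw [← Nat.card_pi]
    refine Nat.card_le_card_of_injective
      (fun x : P => fun ω : Ω => (⟨x • rep ω, MulAction.mem_orbit _ _⟩ : MulAction.orbit P (rep ω))) ?_
    intro x y h
    refine Subtype.ext (Equiv.ext fun i => ?_)
    obtain ⟨z, hz⟩ := hrep i
    have e : x • rep (Quotient.mk'' i) = y • rep (Quotient.mk'' i) :=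
      congrArg Subtype.val (congrFun h (Quotient.mk'' i))
    have e' : (x : Equiv.Perm (Fin N)) (rep (Quotient.mk'' i)) =
        (y : Equiv.Perm (Fin N)) (rep (Quotient.mk'' i)) := e
    rw [← hz, ← Equiv.Perm.mul_apply, ← Equiv.Perm.mul_apply, hcomm _ x.2 _ z.2, hcomm _ y.2 _ z.2,
      Equiv.Perm.mul_apply, Equiv.Perm.mul_apply, e']
  have hsum : ∑ ω : Ω, c ω = N := by
    have h := Nat.card_congr (MulAction.selfEquivSigmaOrbits' P (Fin N))
    rw [Nat.card_sigma, Nat.card_eq_fintype_card, Fintype.card_fin] at h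
    refine Eq.trans (Finset.sum_congr rfl fun ω _ => ?_) h.symm
    rw [MulAction.orbitRel.Quotient.orbit_eq_orbit_out ω (hφ := Quotient.out_eq')]
  have hsq : ∀ ω, c ω ^ 2 ≤ 2 ^ c ω := fun ω => by
    haveI : Fact (Nat.Prime 2) := ⟨Nat.prime_two⟩
    obtain ⟨k, hk⟩ := hPp.card_orbit (rep ω)
    show Nat.card _ ^ 2 ≤ 2 ^ Nat.card _
    rw [hk, ← pow_mul]
    refine Nat.pow_le_pow_right (by norm_num) ?_
    rcases k with _ | k
    · simp
    calc (k + 1) * 2 = 2 * (k + 1) := by ring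
      _ ≤ 2 * 2 ^ k := Nat.mul_le_mul_left _ Nat.lt_two_pow_self
      _ = _ := by rw [pow_succ]; ring
  set ω₀ : Ω := Quotient.mk'' i₀
  have h0 : c ω₀ = 1 := by
    show Nat.card (MulAction.orbit P (rep ω₀)) = 1
    have hfix : ∀ x : P, x • rep ω₀ = rep ω₀ := by
      intro x
      obtain ⟨z, hz⟩ := hrep i₀
      have : rep ω₀ = i₀ := by
        have h1 := congrArg (fun y => ((z : Equiv.Perm (Fin N))⁻¹ : Equiv.Perm (Fin N)) y) hz
        rw [Equiv.Perm.inv_def, Equiv.symm_apply_apply] at h1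
        rw [show rep ω₀ = (z : Equiv.Perm (Fin N))⁻¹ i₀ from h1]
        exact hi₀ _ (P.inv_mem z.2)
      show (x : Equiv.Perm (Fin N)) (rep ω₀) = rep ω₀
      rw [this]; exact hi₀ _ x.2
    haveI : Subsingleton (MulAction.orbit P (rep ω₀)) := ⟨by
      rintro ⟨_, a, rfl⟩ ⟨_, b, rfl⟩
      exact Subtype.ext ((hfix a).trans (hfix b).symm)⟩
    haveI : Nonempty (MulAction.orbit P (rep ω₀)) := ⟨⟨_, MulAction.mem_orbit_self _⟩⟩
    exact Nat.card_eq_one_iff_unique.2 ⟨inferInstance, inferInstance⟩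
  calc Nat.card P ^ 2 * 2 ≤ (∏ ω : Ω, c ω) ^ 2 * 2 :=
        Nat.mul_le_mul_right _ (Nat.pow_le_pow_left hinjP 2)
    _ = (c ω₀ ^ 2 * 2) * ∏ ω ∈ Finset.univ.erase ω₀, c ω ^ 2 := by
        rw [← Finset.prod_pow, ← Finset.mul_prod_erase _ _ (Finset.mem_univ ω₀)]; ring
    _ ≤ 2 ^ c ω₀ * ∏ ω ∈ Finset.univ.erase ω₀, 2 ^ c ω :=
        Nat.mul_le_mul (by rw [h0]; norm_num) (Finset.prod_le_prod' fun ω _ => hsq ω)
    _ = 2 ^ N := by
        rw [Finset.mul_prod_erase _ (fun ω => 2 ^ c ω) (Finset.mem_univ ω₀),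
          Finset.prod_pow_eq_pow_sum, hsum]

variable {H : Type*} [Group H] {V : Type*} [AddCommGroup V] [DistribMulAction H V]
variable [Finite H] [Finite V] [FaithfulSMul H V] {p : ℕ} [Fact p.Prime]

/-- An elementary abelian subgroup of a component. -/
theorem sq_le_index {E : Subgroup H} (hE : IsMod V p E) (Q : Subgroup ↥E)
    (hQ : Cfsg.IsElementaryAbelian p Q) : Nat.card Q ^ 2 ≤ (fx (V := V) E).index := by
  classical
  obtain ⟨n, hn, ⟨K, i1, i2, hK, ρ, ψ, hs, hk, heq⟩ | ⟨h2, ρ, ψ, hev, hs, hk, heq⟩⟩ := hE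
  · haveI : CharP K p := charP_of_card_eq_prime_pow hK
    have hker : ψ.ker = fx E := AddSubgroup.ext fun v => hk v
    rw [← hker, AddSubgroup.index_ker, AddMonoidHom.range_eq_top.2 hs, AddSubgroup.card_top,
      Nat.card_eq_fintype_card (α := Fin 2 → K), Fintype.card_fun, Fintype.card_fin]
    refine Nat.pow_le_pow_left ?_ 2
    have hp : IsPGroup p (Q.map ρ.toMonoidHom) := (Thompson.ea_isPGroup hQ).map _
    obtain ⟨R, hR⟩ := hp.exists_le_sylow
    refine le_trans ?_ (sl2_sylow_line R).1.le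
    rw [← card_map_of_injective (K := Q) (f := ρ.toMonoidHom) ρ.injective]
    exact Subgroup.card_le_of_le hR
  · subst h2
    have hker : ψ.ker = fx E := AddSubgroup.ext fun v => hk v
    have hodd : Odd (2 ^ n + 1) := ⟨2 ^ (n - 1), by
      rw [← pow_succ', show n - 1 + 1 = n by omega]⟩
    have h1 := perm_sq_bound hodd (Q.map ρ.toMonoidHom) (Thompson.ea_map hQ _)
    rw [card_map_of_injective (f := ρ.toMonoidHom) ρ.injective] at h1
    rw [← hker, AddSubgroup.index_ker]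
    refine Nat.le_of_mul_le_mul_right (c := 2) (h1.trans ?_) (by norm_num)
    calc 2 ^ (2 ^ n + 1) = Nat.card (Fin (2 ^ n + 1) → ZMod 2) := by
          rw [Nat.card_eq_fintype_card, Fintype.card_fun, Fintype.card_fin, ZMod.card]
      _ ≤ Nat.card (↥ψ.range × ZMod 2) := by
          refine Nat.card_le_card_of_injective (fun f =>
            (⟨f - Pi.single (⟨0, hodd.pos⟩ : Fin (2 ^ n + 1)) (∑ i, f i), ?_⟩, ∑ i, f i)) ?_
          · obtain ⟨v, hv⟩ := hs (f - Pi.single (⟨0, hodd.pos⟩ : Fin (2 ^ n + 1)) (∑ i, f i)) (by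
              simp [Finset.sum_sub_distrib, Finset.sum_pi_single'])
            exact ⟨v, hv⟩
          · intro f g h
            simp only [Prod.mk.injEq, Subtype.mk.injEq] at h
            rw [h.2] at h
            exact sub_left_inj.1 h.1
      _ = _ := by rw [Nat.card_prod, Nat.card_zmod]

/-- An elementary abelian subgroup of the product. -/
theorem sq_le_card {T : Sylow p H} {r : ℕ} {E : Fin r → Subgroup H}
    (hE : SysData V p (T : Subgroup H) E) {P : Subgroup H} (hP : Cfsg.IsElementaryAbelian p P)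
    (hle : P ≤ ⨆ i, E i) : Nat.card P ^ 2 ≤ Nat.card V := by
  classical
  set Q : Fin r → Subgroup H := fun i =>
    ((P.subgroupOf (⨆ j, E j)).map (hE.pr i)).map (E i).subtype with hQ
  have hPs : Cfsg.IsElementaryAbelian p (P.subgroupOf (⨆ j, E j)) := by
    obtain ⟨h1, h2⟩ := Thompson.ea_iff.1 hP
    exact Thompson.ea_iff.2 ⟨fun x hx => mem_centralizer_iff.2 fun y hy =>
      Subtype.ext (mem_centralizer_iff.1 (h1 hx) _ hy), fun x hx => Subtype.ext (h2 _ hx)⟩
  have hinj : Nat.card P ≤ ∏ i, Nat.card ((P.subgroupOf (⨆ j, E j)).map (hE.pr i)) := by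
    rw [← Nat.card_pi]
    refine Nat.card_le_card_of_injective (fun x : P => fun i =>
      (⟨hE.pr i ⟨x, hle x.2⟩, mem_map_of_mem _ (show (⟨x, hle x.2⟩ : ↥(⨆ j, E j)) ∈ P.subgroupOf _ from x.2)⟩ :
        (P.subgroupOf (⨆ j, E j)).map (hE.pr i))) ?_
    intro x y h
    have h1 : (⟨(x : H), hle x.2⟩ : ↥(⨆ j, E j)) * ⟨(y : H), hle y.2⟩⁻¹ = 1 := by
      refine hE.eq_one_of_pr fun i => ?_
      rw [map_mul, map_inv, mul_inv_eq_one]
      exact congrArg Subtype.val (congrFun h i)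
    exact Subtype.ext (congrArg Subtype.val (mul_inv_eq_one.1 h1) :)
  have hidx := hE.index_iInf Finset.univ (fun i => fx (V := V) (E i)) fun i => le_rfl
  calc Nat.card P ^ 2 ≤ (∏ i, Nat.card ((P.subgroupOf (⨆ j, E j)).map (hE.pr i))) ^ 2 :=
        Nat.pow_le_pow_left hinj 2
    _ ≤ ∏ i, (fx (V := V) (E i)).index := by
        rw [← Finset.prod_pow]
        exact Finset.prod_le_prod' fun i _ => sq_le_index (hE.mod i) _ (Thompson.ea_map hPs _)
    _ = _ := ((Finset.prod_coe_sort Finset.univ fun i => (fx (V := V) (E i)).index).symm.trans hidx.symm)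
    _ ≤ Nat.card V := Nat.le_of_dvd Nat.card_pos (AddSubgroup.index_dvd_card _)

end Cfsg.Agent.NatOver
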