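import Cfsg.Agent.NatOver.Trivial
import Cfsg.Agent.AutPSL.Structure

/-!
# Either SL₂ is normal or the field has four elements
-/

set_option autoImplicit false
set_option linter.unusedSectionVars false
set_option linter.style.haveILetI false

namespace Cfsg.Agent.NatOver.Nat2

open Subgroup Matrix FFStruct
open scoped Pointwise MatrixGroups

universe u

variable {F : Type} [Field F] [Fintype F] {H : Type u} [Group H] [Finite H] {M : Type u}
  [AddCommGroup M] [Finite M] [DistribMulAction H M] [FaithfulSMul H M] {p : ℕ} [Fact p.Prime]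
  [CharP F p] (D : Nat2 p F H M)

/-- The field automorphism of a member of `S`. -/
noncomputable def galS : ↥(D.S : Subgroup H) →* (F ≃+* F) := D.gal.comp (inclusion D.SN)

theorem galS_ker {s : ↥(D.S : Subgroup H)} : D.galS s = 1 ↔ (s : H) ∈ D.P := by
  refine ⟨fun h => D.mem_P_of_gal s.2 h, ?_⟩
  rintro ⟨t, ht⟩
  refine RingEquiv.ext fun c => D.sc_injective (AddMonoidHom.ext fun m => ?_)
  have h := D.smul_sc_gal (inclusion D.SN s) c ((s : H)⁻¹ • m)
  simp only [coe_inclusion, smul_inv_smul] at h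
  show D.sc (D.gal (inclusion D.SN s) c) m = D.sc c m
  rw [← h, ← ht]
  conv_rhs => rw [← smul_inv_smul (D.x t) m]
  exact D.smul_sc ⟨D.x t, D.x_mem t⟩ _ _

/-- If some overgroup of `S` with a nontrivial `p`-core fixes `v` and moves the line. -/
theorem four_of_core {X : Subgroup H} (hSX : (D.S : Subgroup H) ≤ X)
    (hout : ¬ X ≤ normalizer (D.P : Set H)) (hQ : Cfsg.pCore p ↥X ≠ ⊥) :
    p = 2 ∧ Fintype.card F = 4 ∧ Nat.card (D.S : Subgroup H) = 8 := by
  classical
  have hprime : p.Prime := Fact.out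
  set Q : Subgroup H := (Cfsg.pCore p ↥X).map X.subtype with hQd
  have hQp : IsPGroup p Q := (Core.pCore_isPGroup).map _
  have hXQ : X ≤ normalizer (Q : Set H) := by
    intro g hg
    refine mem_normalizer_of_cj (eq_of_le_of_card_ge ?_ (card_cj g Q).ge)
    rintro _ ⟨_, ⟨y, hy, rfl⟩, rfl⟩
    exact ⟨⟨g, hg⟩ * y * ⟨g, hg⟩⁻¹, (Core.pCore_normal).conj_mem y hy _, rfl⟩
  have hQS : Q ≤ (D.S : Subgroup H) :=
    le_sup_right.trans (D.S.is_maximal' (IsPGroup.to_sup_of_normal_right' D.S.isPGroup' hQp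
      (hSX.trans hXQ)) le_sup_left).le
  have hQne : Q ≠ ⊥ := fun e => hQ ((map_eq_bot_iff_of_injective _ X.subtype_injective).1 e)
  set A : Subgroup H := Q ⊓ D.P with hA
  have hAne : A ≠ ⊥ := by
    intro e
    obtain ⟨y, hy⟩ := (Subgroup.ne_bot_iff_exists_ne_one).1 hQne
    have hyP : (y : H) ∈ D.P := D.mem_P_of_commute (hQS y.2) fun z hz => by
      have h1 : (y : H) * z * (y : H)⁻¹ * z⁻¹ ∈ A := by
        refine mem_inf.2 ⟨?_, mul_mem ((mem_normalizer_iff.1 (D.S_le_normalizer_P (hQS y.2)) z).1 hz) (inv_mem hz)⟩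
        rw [mul_assoc (y : H) z, mul_assoc (y : H)]
        exact mul_mem y.2 ((mem_normalizer_iff.1 (hXQ (hSX (D.P_le_S hz))) (y : H)⁻¹).1 (Q.inv_mem y.2))
      rw [e, mem_bot, mul_inv_eq_one, mul_inv_eq_iff_eq_mul] at h1
      exact h1
    exact hy (Subtype.ext (mem_bot.1 (e.le ⟨y.2, hyP⟩)))
  obtain ⟨g, hgX, hg⟩ := SetLike.not_le_iff_exists.1 hout
  set B : Subgroup H := cj g A with hB
  have hBQ : B ≤ Q := (cj_mono g inf_le_left).trans (cj_of_mem_normalizer (hXQ hgX)).le
  have hBP : B ⊓ D.P = ⊥ := le_bot_iff.1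
    ((inf_le_inf_right _ (cj_mono g inf_le_right)).trans (D.inf_cj_eq_bot hg).le)
  have hBS : B ≤ (D.S : Subgroup H) := hBQ.trans hQS
  set f : ↥B →* (F ≃+* F) := D.galS.comp (inclusion hBS) with hf
  have hfi : Function.Injective f := (injective_iff_map_eq_one f).2 fun b hb =>
    Subtype.ext (mem_bot.1 (hBP.le ⟨b.2, D.galS_ker.1 hb⟩))
  have hBe : Cfsg.IsElementaryAbelian p B := ea_cj (by
    obtain ⟨h1, h2⟩ := Thompson.ea_iff.1 D.ea_P
    exact Thompson.ea_iff.2 ⟨fun a ha => mem_centralizer_iff.2 fun c hc =>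
      mem_centralizer_iff.1 (h1 ha.2) c hc.2, fun a ha => h2 _ ha.2⟩) g
  obtain ⟨-, hBx⟩ := Thompson.ea_iff.1 hBe
  haveI : IsCyclic (F ≃+* F) := ChevAut.isCyclic_ringAut
  haveI : IsCyclic ↥B := isCyclic_of_injective f hfi
  have hBc : Nat.card B = p := by
    obtain ⟨b, hb⟩ := IsCyclic.exists_ofOrder_eq_natCard (α := ↥B)
    have hd : Nat.card B ∣ p := hb ▸ orderOf_dvd_of_pow_eq_one (Subtype.ext (by
      simpa using hBx b b.2))
    refine ((Nat.dvd_prime hprime).1 hd).resolve_left fun h1 => hAne ?_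
    rw [← card_eq_one, ← card_cj g A]; exact h1
  have hAc : Nat.card A = p := by rw [← card_cj g A]; exact hBc
  obtain ⟨b, hb⟩ : ∃ b : ↥B, b ≠ 1 := by
    haveI : Nontrivial ↥B := Finite.one_lt_card_iff_nontrivial.1 (hBc ▸ hprime.one_lt)
    exact exists_ne 1
  set n : ↥(normalizer (D.L : Set H)) := inclusion D.SN (inclusion hBS b) with hn
  set φ : F ≃+* F := D.gal n with hφ
  have hφne : φ ≠ 1 := fun e => hb (hfi (by rw [map_one]; exact e))
  obtain ⟨l, e, d, hl, hd, hc⟩ := D.coords n (D.S_smul_W (hBS b.2))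
  -- the map `t ↦ [b, x t]`
  set ε : F →+ F := AddMonoidHom.mk' (fun t => φ t * l / d - t) (fun s t => by
    simp only [map_add]; ring) with hε
  have hεA : ∀ t, D.x (Multiplicative.ofAdd (ε t)) ∈ A := by
    intro t
    have h1 : D.x (Multiplicative.ofAdd (ε t)) =
        (n : H) * D.x (Multiplicative.ofAdd t) * (n : H)⁻¹ * (D.x (Multiplicative.ofAdd t))⁻¹ := by
      rw [D.comm_x hd hc, ← map_inv, ← map_mul, ← ofAdd_neg, ← ofAdd_add, ← sub_eq_add_neg]
      rfl
    refine ⟨?_, ⟨_, rfl⟩⟩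
    rw [h1, mul_assoc (n : H) (D.x _), mul_assoc (n : H)]
    exact mul_mem (hBQ b.2)
      ((mem_normalizer_iff.1 (hXQ (hSX (D.P_le_S ⟨_, rfl⟩))) (n : H)⁻¹).1 (inv_mem (hBQ b.2)))
  have hrange : Nat.card ε.range ≤ p := hAc ▸ Nat.card_le_card_of_injective
    (fun s : ε.range => (⟨D.x (Multiplicative.ofAdd s.1), by
      obtain ⟨t, ht⟩ := s.2; rw [← ht]; exact hεA t⟩ : ↥A))
    (fun s t h => Subtype.ext (Multiplicative.ofAdd.injective (D.x_injective (congrArg Subtype.val h :))))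
  -- the fixed field
  let K : Subfield F :=
    { carrier := {t | φ t = t}
      mul_mem' := fun {a c} (ha : φ a = a) (hc : φ c = c) => by
        show φ (a * c) = a * c; rw [map_mul, ha, hc]
      one_mem' := map_one φ
      add_mem' := fun {a c} (ha : φ a = a) (hc : φ c = c) => by
        show φ (a + c) = a + c; rw [map_add, ha, hc]
      zero_mem' := map_zero φ
      neg_mem' := fun {a} (ha : φ a = a) => by show φ (-a) = -a; rw [map_neg, ha]
      inv_mem' := fun a (ha : φ a = a) => by show φ a⁻¹ = a⁻¹; rw [map_inv₀, ha] }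
  have hker : Nat.card ε.ker ≤ Nat.card K := by
    by_cases hex : ∀ t, ε t = 0 → t = 0
    · haveI : Subsingleton ε.ker := ⟨fun a c => Subtype.ext ((hex _ a.2).trans (hex _ c.2).symm)⟩
      rw [Nat.card_of_subsingleton (0 : ε.ker)]
      exact Nat.card_pos
    · push Not at hex
      obtain ⟨t₀, h0, ht0⟩ := hex
      have h00 : φ t₀ * l / d = t₀ := sub_eq_zero.1 h0
      refine Nat.card_le_card_of_injective (fun t : ε.ker => (⟨t.1 / t₀, ?_⟩ : K)) fun s t h =>
        Subtype.ext ((div_left_inj' ht0).1 (congrArg Subtype.val h))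
      show φ (t.1 / t₀) = t.1 / t₀
      have h1 : φ t.1 * l / d = t.1 := sub_eq_zero.1 t.2
      have hφ0 : φ t₀ ≠ 0 := fun h => ht0 (φ.injective (h.trans (map_zero φ).symm))
      rw [map_div₀]
      conv_rhs => rw [← h1, ← h00]
      field_simp
  have hq : Nat.card F ≤ Nat.card K * p := by
    rw [AddSubgroup.card_eq_card_quotient_mul_card_addSubgroup ε.ker,
      Nat.card_congr (QuotientAddGroup.quotientKerEquivRange ε).toEquiv, mul_comm]
    exact Nat.mul_le_mul hker hrange
  have hKne : K ≠ ⊤ := fun h => hφne (RingEquiv.ext fun t => h.ge (show t ∈ (⊤ : Subfield F) from trivial))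
  have hpw := Module.natCard_eq_pow_finrank (K := K) (V := F)
  have hr : 2 ≤ Module.finrank K F := by
    by_contra hlt
    refine hKne (eq_top_iff.2 fun t _ => ?_)
    have h1 : Nat.card F ≤ Nat.card K := by
      rw [hpw]
      calc Nat.card K ^ Module.finrank K F ≤ Nat.card K ^ 1 :=
            Nat.pow_le_pow_right Nat.card_pos (by omega)
        _ = _ := pow_one _
    obtain ⟨⟨y, hy⟩, rfl⟩ := (Subtype.val_injective.bijective_of_nat_card_le
      (f := ((↑) : K → F)) h1).2 t
    exact hy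
  have hKp : Nat.card K ≤ p := by
    have h1 : Nat.card K ^ 2 ≤ Nat.card K * p :=
      ((Nat.pow_le_pow_right Nat.card_pos hr).trans hpw.ge).trans hq
    rw [sq] at h1
    exact Nat.le_of_mul_le_mul_left h1 Nat.card_pos
  obtain ⟨f', hf', hqf⟩ := Classical.card_field_eq_pow (F := F) p
  have hgal := AutPSL.card_gal (F := F) (p := p) (f := f') hf' hqf
  have hpdvd : p ∣ Nat.card (F ≃+* F) := hBc ▸ Subgroup.card_dvd_of_injective f hfi
  rw [hgal.2] at hpdvd
  have hf2 : f' ≤ 2 := by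
    refine (Nat.pow_le_pow_iff_right hprime.one_lt).1 ?_
    rw [← hqf, ← Nat.card_eq_fintype_card]
    exact hq.trans (by rw [sq]; exact Nat.mul_le_mul_right _ hKp)
  have hp2 : p = 2 := le_antisymm ((Nat.le_of_dvd (by omega) hpdvd).trans hf2) hprime.two_le
  subst hp2
  have hf22 : f' = 2 := le_antisymm hf2 (Nat.le_of_dvd (by omega) hpdvd)
  subst hf22
  refine ⟨rfl, hqf, ?_⟩
  have hk : D.galS.ker = D.P.subgroupOf (D.S : Subgroup H) := Subgroup.ext fun s => D.galS_ker
  rw [Subgroup.card_eq_card_quotient_mul_card_subgroup D.galS.ker,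
    Nat.card_congr (QuotientGroup.quotientKerEquivRange D.galS).toEquiv, hk,
    Nat.card_congr (subgroupOfEquivOfLe D.P_le_S).toEquiv, D.card_P, hqf]
  haveI : Finite (F ≃+* F) := Finite.of_injective _ (DFunLike.coe_injective (F := F ≃+* F))
  have h1 : Nat.card D.galS.range = 2 := by
    refine le_antisymm ((Nat.card_le_card_of_injective _ D.galS.range.subtype_injective).trans hgal.2.le) ?_
    refine le_of_eq_of_le (hBc.symm.trans (Nat.card_congr (MonoidHom.ofInjective hfi).toEquiv)) ?_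
    refine Subgroup.card_le_of_le ?_
    rintro _ ⟨y, rfl⟩
    exact ⟨_, rfl⟩
  rw [h1]; rfl

/-- Either the SL₂ is normal, or the field has four elements. -/
theorem normal_or_four :
    D.L.Normal ∨ (p = 2 ∧ Fintype.card F = 4 ∧ Nat.card (D.S : Subgroup H) = 8) := by
  classical
  letI act : MulAction ↥(D.S : Subgroup H) ↥D.W :=
    { smul := fun s m => ⟨(s : H) • (m : M), D.S_smul_W s.2 m m.2⟩
      one_smul := fun m => Subtype.ext (one_smul H (m : M))
      mul_smul := fun a c m => Subtype.ext (mul_smul (a : H) (c : H) (m : M)) }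
  have hdvd : p ∣ Nat.card D.W := by
    obtain ⟨f, hf, hq⟩ := Classical.card_field_eq_pow (F := F) p
    rw [D.card_W, hq]
    exact dvd_pow_self p (by omega)
  obtain ⟨⟨v, hvW⟩, hfix, hne⟩ := D.S.isPGroup'.exists_fixed_point_of_prime_dvd_card_of_fixed_point
    ↥D.W hdvd (a := ⟨0, D.W.zero_mem⟩) (fun s => Subtype.ext (smul_zero (s : H)))
  have hv : v ≠ 0 := fun e => hne (Subtype.ext e.symm)
  by_cases hK : stabV (H := H) v ≤ normalizer (D.P : Set H)
  · exact Or.inl (D.normal_of_stab_le hv hK)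
  refine Or.inr ?_
  obtain ⟨X, ⟨hSX, hXv, hout⟩, hmin⟩ := Set.exists_min_image
    {X : Subgroup H | (D.S : Subgroup H) ≤ X ∧ X ≤ stabV v ∧ ¬ X ≤ normalizer (D.P : Set H)}
    (fun X => Nat.card X) (Set.toFinite _)
    ⟨stabV v, fun s hs => congrArg Subtype.val (hfix ⟨s, hs⟩), le_rfl, hK⟩
  refine D.four_of_core hSX hout (D.pCore_ne_bot hSX hout (fun Y hSY hYX hne => ?_) hv hvW hXv)
  by_contra hY
  exact hne (eq_of_le_of_card_ge hYX (hmin Y ⟨hSY, hYX.trans hXv, hY⟩))

end Cfsg.Agent.NatOver.Nat2
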