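import Cfsg.Agent.NatOver.Core
import Cfsg.Agent.NatOver.Alt

/-!
# The field with four elements
-/

set_option autoImplicit false
set_option linter.unusedSectionVars false
set_option linter.style.haveILetI false

namespace Cfsg.Agent.NatOver.Nat2

open Subgroup Matrix FFStruct
open scoped Pointwise MatrixGroups commutatorElement

universe u

variable {F : Type} [Field F] [Fintype F] {H : Type u} [Group H] [Finite H] {M : Type u}
  [AddCommGroup M] [Finite M] [DistribMulAction H M] [FaithfulSMul H M] {p : ℕ} [Fact p.Prime]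
  [CharP F p] (D : Nat2 p F H M)

/-- The linear map of an element inducing no field automorphism. -/
noncomputable def lin : ↥D.gal.ker →* Module.End F (Fin 2 → F) where
  toFun n :=
    { toFun := fun w => D.ψ (((n : ↥(normalizer (D.L : Set H))) : H) • D.ψ.symm w)
      map_add' := fun a b => by rw [map_add, smul_add, map_add]
      map_smul' := fun c w => by
        have h : D.ψ.symm (c • w) = D.sc c (D.ψ.symm w) := D.ψ.injective (by rw [D.ψ_sc]; simp)
        rw [h, D.smul_sc_gal, MonoidHom.mem_ker.1 n.2, RingAut.one_apply, D.ψ_sc, RingHom.id_apply] }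
  map_one' := LinearMap.ext fun w => by simp
  map_mul' a b := LinearMap.ext fun w => by simp [mul_smul]

theorem mem_L_of_det {n : ↥D.gal.ker} (h : LinearMap.det (D.lin n) = 1) :
    ((n : ↥(normalizer (D.L : Set H))) : H) ∈ D.L := by
  let A : SL(2, F) := ⟨LinearMap.toMatrix' (D.lin n), by rw [LinearMap.det_toMatrix']; exact h⟩
  suffices e : ((n : ↥(normalizer (D.L : Set H))) : H) = (D.ρ.symm A : H) from e ▸ (D.ρ.symm A).2
  refine eq_of_smul_eq_smul fun m : M => D.ψ.injective ?_
  rw [D.heq, MulEquiv.apply_symm_apply]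
  show _ = (LinearMap.toMatrix' (D.lin n)).mulVec (D.ψ m)
  rw [LinearMap.toMatrix'_mulVec]
  show _ = D.ψ (_ • D.ψ.symm (D.ψ m))
  rw [AddEquiv.symm_apply_apply]

/-- A perfect subgroup of the normalizer lies in the SL₂. -/
theorem le_L_of_perfect {K : Subgroup H} (hK : K ≤ normalizer (D.L : Set H)) (hp : K ≤ ⁅K, K⁆) :
    K ≤ D.L := by
  haveI : IsCyclic (F ≃+* F) := ChevAut.isCyclic_ringAut
  letI : CommGroup (F ≃+* F) := IsCyclic.commGroup
  have h1 : K ≤ D.gal.ker.map (normalizer (D.L : Set H)).subtype := by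
    refine hp.trans (commutator_le.2 fun a ha b hb => ?_)
    exact ⟨⁅(⟨a, hK ha⟩ : ↥(normalizer (D.L : Set H))), ⟨b, hK hb⟩⁆, MonoidHom.mem_ker.2 (by
      rw [map_commutatorElement]; exact commutatorElement_eq_one_iff_mul_comm.2 (mul_comm _ _)), rfl⟩
  refine hp.trans (commutator_le.2 fun a ha b hb => ?_)
  obtain ⟨a', ha', rfl⟩ := h1 ha
  obtain ⟨b', hb', rfl⟩ := h1 hb
  have hd : LinearMap.det (D.lin ⁅(⟨a', ha'⟩ : ↥D.gal.ker), ⟨b', hb'⟩⁆) = 1 := by
    have h2 := map_commutatorElement (LinearMap.det.comp D.lin).toHomUnits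
      (⟨a', ha'⟩ : ↥D.gal.ker) ⟨b', hb'⟩
    rw [commutatorElement_eq_one_iff_mul_comm.2 (mul_comm
      ((LinearMap.det.comp D.lin).toHomUnits ⟨a', ha'⟩) _)] at h2
    exact congrArg Units.val h2
  exact D.mem_L_of_det hd

theorem card_L : Nat.card D.L = Fintype.card F * (Fintype.card F ^ 2 - 1) := by
  rw [Nat.card_congr D.ρ.toEquiv, Classical.card_sl2]

theorem perfect (hq : Fintype.card F = 4) : D.L ≤ ⁅D.L, D.L⁆ := by
  obtain ⟨c, hc0, hc1⟩ : ∃ c : F, c ≠ 0 ∧ c ≠ 1 := by
    classical
    by_contra h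
    push Not at h
    have h2 : (Finset.univ : Finset F) ⊆ {0, 1} := fun c _ => by
      by_cases hc : c = 0
      · simp [hc]
      · simp [h c hc]
    have h3 := (Finset.card_le_card h2).trans Finset.card_le_two
    rw [Finset.card_univ, hq] at h3
    omega
  have hc2 : c ^ 2 ≠ 1 := by
    intro h
    have hp2 : p = 2 := by
      obtain ⟨f, hf, hpf⟩ := Classical.card_field_eq_pow (F := F) p
      have h4 : p ∣ 2 ^ 2 := by
        rw [show (2 : ℕ) ^ 2 = p ^ f by omega]; exact dvd_pow_self p (by omega)
      exact (Nat.prime_dvd_prime_iff_eq Fact.out Nat.prime_two).1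
        ((Fact.out : p.Prime).dvd_of_dvd_pow h4)
    subst hp2
    exact hc1 (frobenius_inj F 2 (by simpa [frobenius_def] using h))
  have ht : commutator ↥D.L = ⊤ := by
    have h := RootSub.Quad.commutator_sl2_eq_top ⟨c, hc0, hc2⟩
    have h2 := congrArg (Subgroup.map D.ρ.symm.toMonoidHom) h
    rw [commutator_def, Subgroup.map_commutator, map_top_of_surjective _ D.ρ.symm.surjective,
      ← commutator_def] at h2
    exact h2
  intro l hl
  have h2 : (⟨l, hl⟩ : ↥D.L) ∈ commutator ↥D.L := by rw [ht]; exact mem_top _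
  have h3 := mem_map_of_mem D.L.subtype h2
  rw [commutator_def, Subgroup.map_commutator, ← MonoidHom.range_eq_map, range_subtype] at h3
  exact h3

theorem eq_bot_or_le (hq : Fintype.card F = 4) {C : Subgroup H} (hC : D.L ≤ normalizer (C : Set H)) :
    C ⊓ D.L = ⊥ ∨ D.L ≤ C := by
  classical
  obtain ⟨f, hf, hpf⟩ := Classical.card_field_eq_pow (F := F) p
  have hp2 : p = 2 := (Nat.prime_dvd_prime_iff_eq Fact.out Nat.prime_two).1
    ((Fact.out : p.Prime).dvd_of_dvd_pow (n := 2) (show p ∣ 2 ^ 2 by
      rw [show (2 : ℕ) ^ 2 = p ^ f by omega]; exact dvd_pow_self p (by omega)))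
  subst hp2
  obtain ⟨x, hx0, hx⟩ : ∃ x : F, x ≠ 0 ∧ x ^ 2 ≠ 1 := by
    by_contra h
    push Not at h
    have h2 : (Finset.univ : Finset F) ⊆ {0, 1} := fun c _ => by
      by_cases hc : c = 0
      · simp [hc]
      · simp [frobenius_inj F 2 (show frobenius F 2 c = frobenius F 2 1 by simp [frobenius_def, h c hc])]
    have h3 := (Finset.card_le_card h2).trans Finset.card_le_two
    rw [Finset.card_univ, hq] at h3
    omega
  haveI hs : IsSimpleGroup (Matrix.ProjectiveSpecialLinearGroup (Fin 2) F) :=
    Classical.isSimpleGroup_psl (ι := Fin 2) (Or.inr ⟨by simp, x, hx0, hx⟩)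
  have hZ : center SL(2, F) = ⊥ := by
    rw [eq_bot_iff]
    intro g hg
    obtain ⟨r, hr, hrg⟩ := Matrix.SpecialLinearGroup.mem_center_iff.mp hg
    have hr1 : r = 1 := frobenius_inj F 2 (by simpa [frobenius_def] using hr)
    refine mem_bot.2 (Subtype.ext ?_)
    rw [← hrg, hr1, map_one, Matrix.SpecialLinearGroup.coe_one]
  let e : ↥D.L ≃* Matrix.ProjectiveSpecialLinearGroup (Fin 2) F :=
    D.ρ.trans ((QuotientGroup.quotientBot).symm.trans (QuotientGroup.quotientMulEquivOfEq hZ.symm))
  haveI : IsSimpleGroup ↥D.L := MulEquiv.isSimpleGroup e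
  haveI : (C.subgroupOf D.L).Normal :=
    ⟨fun n hn g => (mem_normalizer_iff.1 (hC g.2) (n : H)).1 hn⟩
  rcases (IsSimpleGroup.eq_bot_or_eq_top_of_normal (C.subgroupOf D.L) inferInstance) with h | h
  · left
    rw [← disjoint_iff, ← subgroupOf_eq_bot]
    exact h
  · exact Or.inr (subgroupOf_eq_top.1 h)

/-- If the SL₂ is not normal, the group is `A₇`. -/
theorem normal_or_alt :
    D.L.Normal ∨ (Fintype.card F = 4 ∧ Nonempty (H ≃* alternatingGroup (Fin 7))) := by
  classical
  rcases D.normal_or_four with h | ⟨hp, hq, hS⟩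
  · exact Or.inl h
  subst hp
  obtain ⟨j, hj⟩ := exists_alt_eight (H := H) (M := M) D.nsmul_eq_zero (by rw [D.card_M, hq]; rfl)
  set N := normalizer (D.L : Set H) with hN
  have hperf := D.perfect hq
  have hL : Nat.card D.L = 60 := by rw [D.card_L, hq]; rfl
  -- the orders
  have hA8 : Nat.card (alternatingGroup (Fin 8)) = 20160 := by
    rw [nat_card_alternatingGroup, Nat.card_fin]; rfl
  have h20160 : Nat.card H ∣ 20160 := hA8 ▸ Subgroup.card_dvd_of_injective j hj
  have hidx := (D.S : Subgroup H).card_mul_index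
  rw [hS] at hidx
  set o := (D.S : Subgroup H).index with ho
  have hodd : ¬ 2 ∣ o := D.S.not_dvd_index
  have ho315 : o ∣ 315 := by
    have h2520 : o ∣ 8 * 315 := by
      have h1 : 8 * o ∣ 8 * (8 * 315) := by
        rw [hidx]; exact h20160
      exact Nat.dvd_of_mul_dvd_mul_left (by norm_num) h1
    exact Nat.Coprime.dvd_of_dvd_mul_left (Nat.Coprime.pow_right 3 ((Nat.Prime.coprime_iff_not_dvd
      Nat.prime_two).2 hodd).symm) h2520
  have hN120 : 120 ∣ Nat.card N := by
    have h1 : 60 ∣ Nat.card N := hL ▸ card_dvd_of_le le_normalizer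
    have h2 : 8 ∣ Nat.card N := hS ▸ card_dvd_of_le D.SN
    omega
  have h15 : 15 ∣ o := by
    have h1 : 60 ∣ Nat.card H := hL ▸ D.L.card_subgroup_dvd_card
    omega
  obtain ⟨m, hm⟩ := h15
  have hm21 : m ∣ 21 := Nat.dvd_of_mul_dvd_mul_left (show 0 < 15 by norm_num) (by rw [← hm]; exact ho315)
  have hH : Nat.card H = 120 * m := by omega
  by_cases hm' : m = 21
  · refine Or.inr ⟨hq, ?_⟩
    obtain ⟨e⟩ := alt_seven_of_card j.range (by
      rw [← Nat.card_congr (MonoidHom.ofInjective hj).toEquiv]; omega)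
    exact ⟨(MonoidHom.ofInjective hj).trans e⟩
  left
  obtain ⟨a, ha⟩ := hN120
  have hNi := N.card_mul_index
  rw [ha, hH] at hNi
  have hk : a * N.index = m := Nat.eq_of_mul_eq_mul_left (show 0 < 120 by norm_num)
    (by rw [← mul_assoc]; exact hNi)
  -- a normal subgroup inside the normalizer containing the SL₂ suffices
  have hdone : D.L ≤ N.normalCore → D.L.Normal := by
    intro hle
    refine ⟨fun y hy g => ?_⟩
    have hc : cj g D.L ≤ N := by
      rintro _ ⟨z, hz, rfl⟩
      exact normalCore_le N ((normalCore_normal N).conj_mem z (hle hz) g)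
    have hcp : cj g D.L ≤ ⁅cj g D.L, cj g D.L⁆ := by
      rw [cj, ← Subgroup.map_commutator]; exact map_mono hperf
    exact D.le_L_of_perfect hc hcp ⟨y, hy, rfl⟩
  by_cases hk1 : N.index = 1
  · rw [index_eq_one] at hk1
    exact normalizer_eq_top_iff.1 hk1
  have hm37 : N.index = 3 ∧ m = 3 ∨ N.index = 7 ∧ m = 7 ∧ a = 1 := by
    have h1 : m ∈ Nat.divisors 21 := Nat.mem_divisors.2 ⟨hm21, by norm_num⟩
    have h2 : Nat.divisors 21 = {1, 3, 7, 21} := by decide
    rw [h2] at h1
    simp only [Finset.mem_insert, Finset.mem_singleton] at h1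
    have h3 : N.index ∣ m := ⟨a, by rw [← hk, mul_comm]⟩
    have h4 : N.index ≤ m := Nat.le_of_dvd (by omega) h3
    rcases h1 with rfl | rfl | rfl | rfl
    · exact absurd (Nat.dvd_one.1 h3) hk1
    · left; refine ⟨?_, rfl⟩
      rcases (Nat.dvd_prime Nat.prime_three).1 h3 with h | h <;> omega
    · right
      rcases (Nat.dvd_prime (by norm_num : Nat.Prime 7)).1 h3 with h | h
      · omega
      · refine ⟨h, rfl, ?_⟩
        rw [h] at hk; omega
    · exact absurd rfl hm'
  haveI : Fintype (H ⧸ N) := Fintype.ofFinite _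
  rcases hm37 with ⟨h3, -⟩ | ⟨h7, rfl, rfl⟩
  · -- three cosets
    refine hdone ?_
    rw [normalCore_eq_ker]
    set f := MulAction.toPermHom H (H ⧸ N)
    have hQ : Nat.card (H ⧸ N) = 3 := h3
    have hsol : Group.IsSolvable (Equiv.Perm (H ⧸ N)) :=
      SubA8.solvable_small (show Nat.card (H ⧸ N) ≤ 4 by omega) (MonoidHom.id _) Function.injective_id
    obtain ⟨n, hn⟩ := hsol.solvable
    have hle : ∀ n, D.L.map f ≤ derivedSeries (Equiv.Perm (H ⧸ N)) n := by
      intro n
      induction n with
      | zero => exact le_top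
      | succ n ih =>
        rw [derivedSeries_succ]
        refine (map_mono hperf).trans ?_
        rw [Subgroup.map_commutator]
        exact commutator_mono ih ih
    exact (Subgroup.map_eq_bot_iff _).1 (le_bot_iff.1 ((hle n).trans hn.le))
  · -- seven cosets
    set C := N.normalCore with hC
    by_cases hC1 : C = ⊥
    · exfalso
      rw [hC, normalCore_eq_ker, MonoidHom.ker_eq_bot_iff] at hC1
      set f := MulAction.toPermHom H (H ⧸ N)
      have hQ : Fintype.card (H ⧸ N) = 7 := by rw [← Nat.card_eq_fintype_card]; exact h7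
      let e : Equiv.Perm (H ⧸ N) ≃* Equiv.Perm (Fin 7) :=
        (Fintype.equivFinOfCardEq hQ).permCongrHom
      let f7 : H →* Equiv.Perm (Fin 7) := e.toMonoidHom.comp f
      have hf7 : Function.Injective f7 := e.injective.comp hC1
      set R : Subgroup (alternatingGroup (Fin 7)) := f7.range.subgroupOf (alternatingGroup (Fin 7))
      have hR : Nat.card f7.range ∣ 2 * Nat.card R := by
        have h1 := (f7.range ⊓ alternatingGroup (Fin 7)).card_subgroup_dvd_card
        have h2 := (alternatingGroup (Fin 7)).relIndex_dvd_index_of_normal f7.range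
        rw [alternatingGroup.index_eq_two] at h2
        have h5 := relIndex_mul_relIndex ⊥ (f7.range ⊓ alternatingGroup (Fin 7)) f7.range bot_le inf_le_left
        rw [relIndex_bot_left, relIndex_bot_left, inf_relIndex_left] at h5
        rw [← h5, mul_comm, show Nat.card R = Nat.card ↥(f7.range ⊓ alternatingGroup (Fin 7)) by
          show Nat.card ↥(f7.range.subgroupOf (alternatingGroup (Fin 7))) = _
          rw [← inf_subgroupOf_right]; exact Nat.card_congr (subgroupOfEquivOfLe inf_le_right).toEquiv]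
        exact Nat.mul_dvd_mul h2 dvd_rfl
      rw [← Nat.card_congr (MonoidHom.ofInjective hf7).toEquiv, hH] at hR
      have hmul := R.card_mul_index
      rw [nat_card_alternatingGroup, Nat.card_fin, show Nat.factorial 7 / 2 = 2520 from rfl] at hmul
      have hR1 : 420 ∣ Nat.card R := by omega
      obtain ⟨r, hr⟩ := hR1
      have hri : R.index ∣ 6 := ⟨r, by
        rw [hr, show (2520 : ℕ) = 420 * 6 from rfl, mul_assoc] at hmul
        have := Nat.eq_of_mul_eq_mul_left (by norm_num : 0 < 420) hmul
        rw [← this, mul_comm]⟩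
      have hRle : R.index ≤ 6 := Nat.le_of_dvd (by norm_num) hri
      have hRne : R ≠ ⊤ := by
        intro h
        have : Nat.card R ≤ Nat.card f7.range :=
          Nat.card_le_card_of_injective (fun x : R => (⟨(x.1 : Equiv.Perm (Fin 7)), x.2⟩ : f7.range))
            fun x y h => Subtype.ext (Subtype.ext (congrArg Subtype.val h :))
        rw [← Nat.card_congr (MonoidHom.ofInjective hf7).toEquiv, hH, h, Subgroup.card_top,
          nat_card_alternatingGroup, Nat.card_fin, show Nat.factorial 7 / 2 = 2520 from rfl] at this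
        omega
      have h6 := (SubA8.simple_index (by norm_num) R hRne).2.trans (Nat.factorial_le hRle)
      rw [nat_card_alternatingGroup, Nat.card_fin] at h6
      exact absurd h6 (by decide)
    · rcases D.eq_bot_or_le hq (C := C) (by
        rw [normalizer_eq_top_iff.2 (normalCore_normal N)]; exact le_top) with h | h
      · exfalso
        -- elements centralizing the SL₂ are scalars
        have hcomm : ∀ c ∈ C, ∀ l ∈ D.L, c * l = l * c := by
          intro c hc l hl
          have h1 : c * l * c⁻¹ * l⁻¹ ∈ C ⊓ D.L := by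
            refine mem_inf.2 ⟨?_, mul_mem ((mem_normalizer_iff.1 (normalCore_le N hc) l).1 hl) (inv_mem hl)⟩
            rw [mul_assoc c l, mul_assoc c]
            exact mul_mem hc ((normalCore_normal N).conj_mem _ (inv_mem hc) l)
          rw [h, mem_bot, mul_inv_eq_one, mul_inv_eq_iff_eq_mul] at h1
          exact h1
        have hexp : ∀ c ∈ C, c ^ 3 = 1 := by
          intro c hc
          obtain ⟨x, hx⟩ := D.exists_scalar (DistribSMul.toAddMonoidHom M c) fun l m => by
            show c • (l : H) • m = (l : H) • c • m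
            rw [← mul_smul, ← mul_smul, hcomm c hc l l.2]
          have hcm : ∀ m, c • m = D.sc x m := fun m => DFunLike.congr_fun hx m
          have hx0 : x ≠ 0 := by
            intro h0
            have h1 := congrArg D.ψ (hcm (c⁻¹ • D.ψ.symm ![1, 0]))
            rw [smul_inv_smul, D.ψ_sc, h0, zero_smul] at h1
            simpa using congrFun h1 0
          have hx3 : x ^ 3 = 1 := by
            have := FiniteField.pow_card_sub_one_eq_one x hx0
            rwa [hq] at this
          refine eq_of_smul_eq_smul fun m : M => D.ψ.injective ?_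
          rw [one_smul, pow_succ, pow_two, mul_smul, mul_smul, hcm, hcm, hcm, D.ψ_sc, D.ψ_sc, D.ψ_sc,
            ← mul_smul, ← mul_smul, ← pow_two, ← pow_succ, hx3, one_smul]
        refine hC1 (eq_bot_iff.2 fun c hc => mem_bot.2 ?_)
        -- `C` times the SL₂ is a subgroup of order at most 120
        have h2 : Nat.card C * 60 ≤ 120 := by
          rw [← hL, ← Nat.card_prod]
          have : Nat.card N = 120 := by omega
          rw [← this]
          refine Nat.card_le_card_of_injective (fun x : ↥C × ↥D.L =>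
            (⟨(x.1 : H) * x.2, mul_mem (normalCore_le N x.1.2) (le_normalizer x.2.2)⟩ : ↥N)) ?_
          rintro ⟨⟨a1, h1⟩, ⟨b1, g1⟩⟩ ⟨⟨a2, h2⟩, ⟨b2, g2⟩⟩ he
          have he' : a1 * b1 = a2 * b2 := congrArg Subtype.val he
          have h4 : a2⁻¹ * a1 = 1 := mem_bot.1 (h.le ⟨C.mul_mem (C.inv_mem h2) h1, by
            have : a2⁻¹ * a1 = b2 * b1⁻¹ := by
              rw [eq_mul_inv_iff_mul_eq, mul_assoc, he', inv_mul_cancel_left]
            rw [this]; exact D.L.mul_mem g2 (D.L.inv_mem g1)⟩)
          have ha12 : a2 = a1 := inv_mul_eq_one.1 h4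
          subst ha12
          exact Prod.ext (Subtype.ext rfl) (Subtype.ext (mul_left_cancel he'))
        have h3 : orderOf (⟨c, hc⟩ : ↥C) ∣ Nat.card C := orderOf_dvd_natCard _
        have h4 : orderOf (⟨c, hc⟩ : ↥C) ∣ 3 := orderOf_dvd_of_pow_eq_one (Subtype.ext (hexp c hc))
        rcases (Nat.dvd_prime Nat.prime_three).1 h4 with h5 | h5
        · exact congrArg Subtype.val (orderOf_eq_one_iff.1 h5)
        · rw [h5] at h3
          have := Nat.le_of_dvd Nat.card_pos h3
          omega
      · exact hdone h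

end Cfsg.Agent.NatOver.Nat2
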