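import Cfsg.Agent.NatOver.Setup
import Cfsg.Agent.RootSub.Quad.Words

/-!
# The root group and its conjugates
-/

set_option autoImplicit false
set_option linter.unusedSectionVars false
set_option linter.style.haveILetI false

namespace Cfsg.Agent.NatOver.Nat2

open Subgroup Matrix FFStruct
open scoped Pointwise MatrixGroups

universe u

variable {F : Type} [Field F] [Fintype F] {H : Type u} [Group H] [Finite H] {M : Type u}
  [AddCommGroup M] [Finite M] [DistribMulAction H M] [FaithfulSMul H M] {p : ℕ} [Fact p.Prime]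
  [CharP F p] (D : Nat2 p F H M)

theorem S_smul_W {s : H} (hs : s ∈ (D.S : Subgroup H)) : ∀ m ∈ D.W, s • m ∈ D.W := fun m hm =>
  D.fx_P.le (smul_mem_fx_norm (D.S_le_normalizer_P hs) (D.fx_P.ge hm))

/-- An element of `S` inducing no field automorphism lies in the root group. -/
theorem mem_P_of_gal {s : H} (hs : s ∈ (D.S : Subgroup H))
    (hg : D.gal ⟨s, D.SN hs⟩ = 1) : s ∈ D.P := by
  obtain ⟨l, e, d, hl, hd, hc⟩ := D.coords ⟨s, D.SN hs⟩ (D.S_smul_W hs)
  simp only [hg, RingAut.one_apply] at hc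
  have hpow : ∀ k : ℕ, D.ψ (s ^ k • D.ψ.symm ![1, 0]) = ![l ^ k, 0] := by
    intro k
    induction k with
    | zero => simp
    | succ k ih =>
      rw [pow_succ', mul_smul, hc, ih]
      simp [pow_succ]
  have hpow' : ∀ k : ℕ, D.ψ (s ^ k • D.ψ.symm ![0, 1]) 1 = d ^ k := by
    intro k
    induction k with
    | zero => simp
    | succ k ih =>
      rw [pow_succ', mul_smul, hc]
      simp [ih, pow_succ]
  obtain ⟨k, hk⟩ := D.S.isPGroup' ⟨s, hs⟩
  have hk' : s ^ p ^ k = 1 := congrArg Subtype.val hk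
  have hl1 : l = 1 := by
    have h := congrFun (hpow (p ^ k)) 0
    rw [hk', one_smul, AddEquiv.apply_symm_apply] at h
    exact iterateFrobenius_inj F p k (by simpa [iterateFrobenius_def] using h.symm)
  have hd1 : d = 1 := by
    have h := hpow' (p ^ k)
    rw [hk', one_smul, AddEquiv.apply_symm_apply] at h
    exact iterateFrobenius_inj F p k (by simpa [iterateFrobenius_def] using h.symm)
  refine ⟨Multiplicative.ofAdd e, eq_of_smul_eq_smul fun m : M => D.ψ.injective ?_⟩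
  rw [D.ψ_x, hc, hl1, hd1]
  funext i
  fin_cases i <;> simp [mul_comm]

/-- How an element commutes with the root elements. -/
theorem comm_x {n : ↥(normalizer (D.L : Set H))} {l e d : F} (hd : d ≠ 0)
    (hc : ∀ m, D.ψ ((n : H) • m) =
      ![D.gal n (D.ψ m 0) * l + D.gal n (D.ψ m 1) * e, D.gal n (D.ψ m 1) * d]) (t : F) :
    (n : H) * D.x (Multiplicative.ofAdd t) * (n : H)⁻¹ =
      D.x (Multiplicative.ofAdd (D.gal n t * l / d)) := by
  rw [mul_inv_eq_iff_eq_mul]
  refine eq_of_smul_eq_smul fun m : M => D.ψ.injective ?_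
  rw [mul_smul, mul_smul, hc, D.ψ_x, D.ψ_x, hc]
  funext i
  fin_cases i
  · simp [field, map_add, map_mul]
    ring
  · simp

/-- Members of `S` centralizing the root group lie in it. -/
theorem mem_P_of_commute {s : H} (hs : s ∈ (D.S : Subgroup H))
    (hcm : ∀ y ∈ D.P, s * y = y * s) : s ∈ D.P := by
  obtain ⟨l, e, d, hl, hd, hc⟩ := D.coords ⟨s, D.SN hs⟩ (D.S_smul_W hs)
  have ht : ∀ t : F, D.gal ⟨s, D.SN hs⟩ t * l / d = t := fun t => by
    have h1 := D.comm_x hd hc t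
    simp only at h1
    rw [hcm _ ⟨_, rfl⟩, mul_inv_cancel_right] at h1
    exact (Multiplicative.ofAdd.injective (D.x_injective h1)).symm
  refine D.mem_P_of_gal hs (RingEquiv.ext fun t => ?_)
  have h1 := ht 1
  rw [map_one, one_mul] at h1
  have h2 := ht t
  rw [mul_div_assoc, h1, mul_one] at h2
  exact h2

theorem S_le_normalizer_stb : (D.S : Subgroup H) ≤ normalizer (stb (H := H) D.W : Set H) := by
  have key : ∀ s ∈ (D.S : Subgroup H), ∀ h ∈ stb (H := H) D.W, s * h * s⁻¹ ∈ stb (H := H) D.W := by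
    intro s hs h hh
    refine ⟨fun m hm => ?_, fun m => ?_⟩
    · rw [mul_smul, mul_smul, hh.1 _ (D.S_smul_W (inv_mem hs) m hm), smul_inv_smul]
    · rw [dm_conj]
      exact D.S_smul_W hs _ (hh.2 _)
  intro s hs
  refine mem_normalizer_iff.2 fun h => ⟨key s hs h, fun hh => ?_⟩
  have := key s⁻¹ (inv_mem hs) _ hh
  simpa [mul_assoc] using this

theorem stb_eq : stb (H := H) D.W = D.P := by
  refine le_antisymm (fun h hh => ?_) D.P_le_stb
  have hp : IsPGroup p ↥((D.S : Subgroup H) ⊔ stb (H := H) D.W) :=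
    IsPGroup.to_sup_of_normal_right' D.S.isPGroup' (Thompson.ea_isPGroup (ea_stb D.nsmul_eq_zero D.W))
      D.S_le_normalizer_stb
  have hle := D.S.is_maximal' hp le_sup_left
  refine D.mem_P_of_commute (hle.le (mem_sup_right hh)) fun y hy => ?_
  exact (mem_centralizer_iff.1 ((Thompson.ea_iff.1 (ea_stb (H := H) D.nsmul_eq_zero D.W)).1 hh) y
    (D.P_le_stb hy)).symm

/-- A member of the conjugate of the root group which is in the root group moves nothing. -/
theorem mem_normalizer_of_smul_W {g : H} (hg : ∀ m ∈ D.W, g • m ∈ D.W) : g ∈ normalizer (D.P : Set H) := by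
  refine mem_normalizer_of_cj (eq_of_le_of_card_ge ?_ (card_cj g D.P).ge)
  rintro _ ⟨y, hy, rfl⟩
  rw [← D.stb_eq]
  have hsurj : ∀ m ∈ D.W, g⁻¹ • m ∈ D.W := by
    intro m hm
    have hle : sm g D.W ≤ D.W := by rintro _ ⟨w, hw, rfl⟩; exact hg w hw
    have := (eq_of_le_of_card_ge_add hle (card_sm g D.W).ge).ge hm
    exact mem_sm.1 this
  refine ⟨fun m hm => ?_, fun m => ?_⟩
  · show (g * y * g⁻¹) • m = m
    rw [mul_smul, mul_smul, (D.P_le_stb hy).1 _ (hsurj m hm), smul_inv_smul]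
  · show dm (g * y * g⁻¹) m ∈ D.W
    rw [dm_conj]
    exact hg _ (D.dm_P hy _)

theorem smul_W_of_normalizer {g : H} (hg : g ∈ normalizer (D.P : Set H)) :
    ∀ m ∈ D.W, g • m ∈ D.W := fun m hm =>
  D.fx_P.le (smul_mem_fx_norm hg (D.fx_P.ge hm))

/-- The root group is a TI set. -/
theorem inf_cj_eq_bot {g : H} (hg : g ∉ normalizer (D.P : Set H)) : cj g D.P ⊓ D.P = ⊥ := by
  refine (Subgroup.eq_bot_iff_forall _).2 fun y hy => by_contra fun hne => hg ?_
  obtain ⟨⟨z, hz, hzy⟩, t, rfl⟩ := hy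
  obtain ⟨t', rfl⟩ := hz
  have e : g * D.x t' * g⁻¹ = D.x t := hzy
  have ht : t ≠ 1 := fun h => hne (by rw [h, map_one])
  refine D.mem_normalizer_of_smul_W fun m hm => (D.x_fix_iff ht _).1 ?_
  rw [← e, mul_smul, mul_smul, inv_smul_smul, D.fx_P.ge hm _ ⟨t', rfl⟩]

theorem cj_le_L (l : ↥D.L) : cj (l : H) D.P ≤ D.L :=
  (cj_mono _ D.P_le_L).trans (cj_of_mem_normalizer (le_normalizer l.2)).le

/-- The root groups generate. -/
theorem L_le_iSup : D.L ≤ ⨆ l : ↥D.L, cj (l : H) D.P := by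
  set U : Subgroup H := ⨆ l : ↥D.L, cj (l : H) D.P with hU
  let w : SL(2, F) := ⟨!![0, 1; -1, 0], by simp [Matrix.det_fin_two]⟩
  obtain ⟨R, hR⟩ := Classical.exists_sylow_rootSL (F := F) p
  have hne : R ≠ w • R := by
    intro h
    have hmem : w * Classical.rootHomSL (Multiplicative.ofAdd (1 : F)) * w⁻¹ ∈ (R : Subgroup SL(2, F)) := by
      rw [h, Sylow.coe_subgroup_smul]
      exact ⟨_, hR.ge ⟨_, rfl⟩, rfl⟩
    rw [hR] at hmem
    obtain ⟨c, hc⟩ := hmem
    have h2 := congrArg (fun A : SL(2, F) => (A : Matrix (Fin 2) (Fin 2) F) 1 0) hc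
    rw [Classical.conj_rootHomSL] at h2
    simp [Classical.rootHomSL_coe, w] at h2
  intro y hy
  have htop : ∀ A : SL(2, F), A ∈ (R : Subgroup SL(2, F)) ⊔ (w • R : Sylow p SL(2, F)) := fun A => by
    rw [Classical.sylow_sl2_sup p R (w • R) hne]; exact mem_top A
  suffices h : ((R : Subgroup SL(2, F)) ⊔ (w • R : Sylow p SL(2, F))) ≤
      U.comap (D.L.subtype.comp D.ρ.symm.toMonoidHom) by
    have h1 : (D.ρ.symm (D.ρ ⟨y, hy⟩) : H) ∈ U := h (htop (D.ρ ⟨y, hy⟩))
    rwa [MulEquiv.symm_apply_apply] at h1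
  refine sup_le ?_ ?_
  · rw [hR]
    rintro _ ⟨c, rfl⟩
    exact mem_iSup_of_mem (1 : ↥D.L) (by rw [OneMemClass.coe_one, cj_one]; exact ⟨c, rfl⟩)
  · rw [Sylow.coe_subgroup_smul, hR]
    rintro _ ⟨_, ⟨c, rfl⟩, rfl⟩
    refine mem_iSup_of_mem (D.ρ.symm w) ⟨D.x c, ⟨c, rfl⟩, ?_⟩
    show (D.ρ.symm w : H) * D.x c * (D.ρ.symm w : H)⁻¹ = (D.ρ.symm (w * Classical.rootHomSL c * w⁻¹) : H)
    simp [x]

/-- The first basis vector. -/
def v : M := D.ψ.symm ![1, 0]

theorem normal_of_stab_le {v : M} (hv : v ≠ 0)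
    (hK : stabV (H := H) v ≤ normalizer (D.P : Set H)) : D.L.Normal := by
  have hall : ∀ g : H, cj g D.P ≤ D.L := by
    intro g
    have hgv : D.ψ (g • v) ≠ 0 := by
      rw [Ne, map_eq_zero_iff _ D.ψ.injective, smul_eq_zero_iff_eq]; exact hv
    obtain ⟨A, hA⟩ := TransTorus.exists_sl2 (w := D.ψ v)
      (by rwa [Ne, map_eq_zero_iff _ D.ψ.injective]) hgv
    set l := D.ρ.symm A
    have hlg : (l : H) • v = g • v := D.ψ.injective (by rw [D.heq, MulEquiv.apply_symm_apply, hA])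
    have hk : (l : H)⁻¹ * g ∈ normalizer (D.P : Set H) := hK (by
      show ((l : H)⁻¹ * g) • v = v
      rw [mul_smul, ← hlg, inv_smul_smul])
    have : cj g D.P = cj (l : H) D.P := by
      conv_lhs => rw [show g = (l : H) * ((l : H)⁻¹ * g) by group]
      rw [← cj_cj, cj_of_mem_normalizer hk]
    rw [this]
    exact D.cj_le_L l
  have hcj : ∀ g, cj g D.L ≤ D.L := fun g => by
    refine (cj_mono g D.L_le_iSup).trans ?_
    rw [cj, Subgroup.map_iSup]
    exact iSup_le fun l => (cj_cj g l D.P).le.trans (hall _)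
  exact ⟨fun y hy g => hcj g ⟨y, hy, rfl⟩⟩

end Cfsg.Agent.NatOver.Nat2
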