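import Cfsg.Agent.NatOver.Four
import Cfsg.Agent.NatSL2.Setup
import Cfsg.Agent.SylowNumber.Formula

/-!
# Natural modules and overgroups: coordinates
-/

set_option autoImplicit false
set_option linter.unusedSectionVars false
set_option linter.style.haveILetI false

namespace Cfsg.Agent.NatOver

open Subgroup Matrix FFStruct
open scoped Pointwise MatrixGroups

universe u

/-- A group with an SL₂ on a natural module whose normalizer contains a Sylow subgroup. -/
theorem main {F : Type} [Field F] [Fintype F] {H : Type u} [Group H] [Finite H] {M : Type u}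
    [AddCommGroup M] [Finite M] [DistribMulAction H M] [FaithfulSMul H M] {p : ℕ} [Fact p.Prime]
    [CharP F p] (L : Subgroup H) (ψ : M ≃+ (Fin 2 → F)) (ρ : ↥L ≃* SL(2, F))
    (heq : ∀ (l : ↥L) (m : M), ψ ((l : H) • m) = (ρ l : Matrix (Fin 2) (Fin 2) F).mulVec (ψ m))
    (S : Sylow p H) (SN : (S : Subgroup H) ≤ normalizer (L : Set H)) :
    L.Normal ∨ (Fintype.card F = 4 ∧ Nonempty (H ≃* alternatingGroup (Fin 7))) := by
  classical
  set N := normalizer (L : Set H)
  haveI : (L.subgroupOf N).Normal :=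
    ⟨fun n hn g => (mem_normalizer_iff.1 g.2 (n : H)).1 hn⟩
  obtain ⟨R, hR⟩ := SylowNumber.exists_sylow_inf (S.subtype SN) (L.subgroupOf N)
  have hp : IsPGroup p ((S : Subgroup H).subgroupOf L) :=
    S.isPGroup'.comap_of_injective L.subtype L.subtype_injective
  have hidx : ¬ p ∣ ((S : Subgroup H).subgroupOf L).index := by
    have h := R.not_dvd_index
    rw [hR] at h
    change ¬ p ∣ (((S.subtype SN : Sylow p ↥N) : Subgroup ↥N) ⊓ L.subgroupOf N).relIndex (L.subgroupOf N) at h
    rw [inf_relIndex_right] at h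
    change ¬ p ∣ ((S : Subgroup H).subgroupOf N).relIndex (L.subgroupOf N) at h
    rw [relIndex_subgroupOf le_normalizer] at h
    exact h
  let S1 : Sylow p ↥L := hp.toSylow hidx
  let S' : Sylow p SL(2, F) := S1.mapSurjective (f := ρ.toMonoidHom) ρ.surjective
  obtain ⟨g, hg⟩ := Classical.sylow_sl2_conj (F := F) p S'
  let gi : SL(2, F) := g⁻¹
  have hinv : ∀ w : Fin 2 → F, (g : Matrix (Fin 2) (Fin 2) F) *ᵥ ((gi : Matrix (Fin 2) (Fin 2) F) *ᵥ w) = w :=
    fun w => by
      rw [mulVec_mulVec, ← Matrix.SpecialLinearGroup.coe_mul, mul_inv_cancel,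
        Matrix.SpecialLinearGroup.coe_one, one_mulVec]
  have hinv' : ∀ w : Fin 2 → F, (gi : Matrix (Fin 2) (Fin 2) F) *ᵥ ((g : Matrix (Fin 2) (Fin 2) F) *ᵥ w) = w :=
    fun w => by
      rw [mulVec_mulVec, ← Matrix.SpecialLinearGroup.coe_mul, inv_mul_cancel,
        Matrix.SpecialLinearGroup.coe_one, one_mulVec]
  let D : Nat2 p F H M :=
    { L := L
      ψ :=
        { toFun := fun m => (gi : Matrix (Fin 2) (Fin 2) F) *ᵥ ψ m
          invFun := fun w => ψ.symm ((g : Matrix (Fin 2) (Fin 2) F) *ᵥ w)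
          left_inv := fun m => by simp only [hinv, AddEquiv.symm_apply_apply]
          right_inv := fun w => by simp only [AddEquiv.apply_symm_apply, hinv']
          map_add' := fun a b => by simp only [map_add, mulVec_add] }
      ρ := ρ.trans (MulAut.conj g⁻¹)
      heq := fun l m => by
        show (gi : Matrix (Fin 2) (Fin 2) F) *ᵥ ψ _ =
          ((g⁻¹ * ρ l * g⁻¹⁻¹ : SL(2, F)) : Matrix (Fin 2) (Fin 2) F) *ᵥ
            ((gi : Matrix (Fin 2) (Fin 2) F) *ᵥ ψ m)
        rw [heq, inv_inv, Matrix.SpecialLinearGroup.coe_mul, Matrix.SpecialLinearGroup.coe_mul,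
          ← mulVec_mulVec, ← mulVec_mulVec, hinv]
      S := S
      SN := SN
      hroot := fun l => by
        have h1 : (l : H) ∈ (S : Subgroup H) ↔ ρ l ∈ (S' : Subgroup SL(2, F)) := by
          show _ ↔ ρ l ∈ ((S : Subgroup H).subgroupOf L).map ρ.toMonoidHom
          rw [mem_map_equiv, ρ.symm_apply_apply]
          exact Iff.rfl
        rw [h1, hg, mem_map_equiv]
        show (∃ c, Classical.rootHomSL c = (MulAut.conj g).symm (ρ l)) ↔ _
        have h2 : (MulAut.conj g).symm (ρ l) = (ρ.trans (MulAut.conj g⁻¹)) l := by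
          simp [MulAut.conj_symm_apply, MulAut.conj_apply]
        rw [h2]
        exact ⟨fun ⟨c, hc⟩ => ⟨c.toAdd, hc.symm⟩, fun ⟨t, ht⟩ => ⟨_, ht.symm⟩⟩ }
  exact D.normal_or_alt

end Cfsg.Agent.NatOver
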