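import Cfsg.Agent.FFStruct.OddSys
import Cfsg.Agent.ChevAut.OutStructure
import Cfsg.Agent.TransTorus.Line

/-!
# A natural module for SL₂ and the normalizer of the SL₂
-/

set_option autoImplicit false
set_option linter.unusedSectionVars false
set_option linter.style.haveILetI false

namespace Cfsg.Agent.NatOver

open Subgroup Matrix FFStruct
open scoped Pointwise MatrixGroups

universe u

/-- A group with a subgroup acting as SL₂ on a natural module, in coordinates adapted to a Sylow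
subgroup of the whole group which normalizes the SL₂. -/
structure Nat2 (p : ℕ) (F : Type) [Field F] (H : Type u) [Group H] (M : Type u) [AddCommGroup M]
    [DistribMulAction H M] where
  L : Subgroup H
  ψ : M ≃+ (Fin 2 → F)
  ρ : ↥L ≃* SL(2, F)
  heq : ∀ (l : ↥L) (m : M), ψ ((l : H) • m) = (ρ l : Matrix (Fin 2) (Fin 2) F).mulVec (ψ m)
  S : Sylow p H
  SN : (S : Subgroup H) ≤ normalizer (L : Set H)
  hroot : ∀ l : ↥L, (l : H) ∈ (S : Subgroup H) ↔
    ∃ t : F, ρ l = Classical.rootHomSL (Multiplicative.ofAdd t)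

namespace Nat2

variable {F : Type} [Field F] [Fintype F] {H : Type u} [Group H] [Finite H] {M : Type u}
  [AddCommGroup M] [Finite M] [DistribMulAction H M] [FaithfulSMul H M] {p : ℕ} [Fact p.Prime]
  [CharP F p] (D : Nat2 p F H M)

theorem nsmul_eq_zero (D : Nat2 p F H M) (m : M) : p • m = 0 := D.ψ.injective (by
  rw [map_nsmul, map_zero]
  exact funext fun i => by simp [CharP.cast_eq_zero F p])

/-- Scalars. -/
def sc (c : F) : M →+ M where
  toFun m := D.ψ.symm (c • D.ψ m)
  map_zero' := by rw [map_zero, smul_zero, map_zero]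
  map_add' a b := by rw [map_add, smul_add, map_add]

theorem ψ_sc (c : F) (m : M) : D.ψ (D.sc c m) = c • D.ψ m := D.ψ.apply_symm_apply _

theorem sc_injective : Function.Injective D.sc := fun a b h => by
  have h1 := congrArg D.ψ (DFunLike.congr_fun h (D.ψ.symm ![1, 0]))
  rw [D.ψ_sc, D.ψ_sc, AddEquiv.apply_symm_apply] at h1
  simpa using congrFun h1 0

theorem smul_sc (l : ↥D.L) (c : F) (m : M) : (l : H) • D.sc c m = D.sc c ((l : H) • m) :=
  D.ψ.injective (by rw [D.heq, D.ψ_sc, D.ψ_sc, D.heq, Matrix.mulVec_smul])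

/-- The root elements. -/
def x : Multiplicative F →* H :=
  D.L.subtype.comp (D.ρ.symm.toMonoidHom.comp Classical.rootHomSL)

theorem x_mem (t : Multiplicative F) : D.x t ∈ D.L := (D.ρ.symm (Classical.rootHomSL t)).2

theorem ψ_x (t : Multiplicative F) (m : M) :
    D.ψ (D.x t • m) = ![D.ψ m 0 + t.toAdd * D.ψ m 1, D.ψ m 1] := by
  show D.ψ ((D.ρ.symm (Classical.rootHomSL t) : H) • m) = _
  rw [D.heq, MulEquiv.apply_symm_apply, Classical.rootHomSL_coe]
  funext i
  fin_cases i <;> simp [Matrix.mulVec, dotProduct, Fin.sum_univ_two]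

theorem x_injective : Function.Injective D.x :=
  D.L.subtype_injective.comp (D.ρ.symm.injective.comp Classical.rootHomSL_injective)

/-- The root group. -/
def P : Subgroup H := D.x.range

theorem mem_P {h : H} : h ∈ D.P ↔ ∃ t, D.x t = h := Iff.rfl

theorem P_eq : D.P = (D.S : Subgroup H) ⊓ D.L := by
  ext h
  refine ⟨?_, fun hh => ?_⟩
  · rintro ⟨t, rfl⟩
    exact ⟨(D.hroot _).2 ⟨t.toAdd, D.ρ.apply_symm_apply _⟩, D.x_mem t⟩
  · obtain ⟨t, ht⟩ := (D.hroot ⟨h, hh.2⟩).1 hh.1
    exact ⟨Multiplicative.ofAdd t, congrArg Subtype.val (D.ρ.symm_apply_eq.2 ht.symm)⟩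

theorem P_le_S : D.P ≤ (D.S : Subgroup H) := D.P_eq.le.trans inf_le_left

theorem P_le_L : D.P ≤ D.L := D.P_eq.le.trans inf_le_right

theorem S_le_normalizer_P : (D.S : Subgroup H) ≤ normalizer (D.P : Set H) := fun s hs => by
  refine mem_normalizer_iff.2 fun h => ?_
  rw [D.P_eq, mem_inf, mem_inf, mem_normalizer_iff.1 (le_normalizer hs) h,
    mem_normalizer_iff.1 (D.SN hs) h]

theorem card_P : Nat.card D.P = Fintype.card F := by
  rw [P, ← Nat.card_congr (MonoidHom.ofInjective D.x_injective).toEquiv,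
    Nat.card_congr Multiplicative.toAdd, Nat.card_eq_fintype_card]

theorem P_ne_bot : D.P ≠ ⊥ := fun h => by
  have h1 := D.card_P
  rw [h, card_bot] at h1
  exact absurd h1 (Fintype.one_lt_card (α := F)).ne

/-- The first line. -/
def W : AddSubgroup M where
  carrier := {m | D.ψ m 1 = 0}
  zero_mem' := by simp
  add_mem' := fun {a b} (ha : D.ψ a 1 = 0) (hb : D.ψ b 1 = 0) => by simp [ha, hb]
  neg_mem' := fun {a} (ha : D.ψ a 1 = 0) => by simp [ha]

theorem mem_W {m : M} : m ∈ D.W ↔ D.ψ m 1 = 0 := Iff.rfl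

theorem card_W : Nat.card D.W = Fintype.card F := by
  rw [← Nat.card_eq_fintype_card]
  refine Nat.card_congr
    { toFun := fun m => D.ψ m.1 0
      invFun := fun a => ⟨D.ψ.symm ![a, 0], by simp [mem_W]⟩
      left_inv := fun m => Subtype.ext (D.ψ.symm_apply_eq.2 (funext fun i => by
        fin_cases i
        · rfl
        · simpa using (D.mem_W.1 m.2).symm))
      right_inv := fun a => by simp }

theorem card_M (D : Nat2 p F H M) : Nat.card M = Fintype.card F ^ 2 := by
  rw [Nat.card_congr D.ψ.toEquiv, Nat.card_eq_fintype_card, Fintype.card_fun, Fintype.card_fin]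

theorem x_fix_iff {t : Multiplicative F} (ht : t ≠ 1) (m : M) : D.x t • m = m ↔ m ∈ D.W := by
  rw [← D.ψ.injective.eq_iff, D.ψ_x, mem_W]
  refine ⟨fun h => ?_, fun h => ?_⟩
  · have h1 := congrFun h 0
    simp only [Matrix.cons_val_zero, add_eq_left, mul_eq_zero] at h1
    exact h1.resolve_left fun e => ht (toAdd_eq_zero.1 e)
  · funext i
    fin_cases i <;> simp [h]

theorem fx_P : (fx D.P : AddSubgroup M) = D.W := by
  ext m
  refine ⟨fun h => ?_, ?_⟩
  · have h1 : Multiplicative.ofAdd (1 : F) ≠ 1 := fun e => one_ne_zero (congrArg Multiplicative.toAdd e)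
    exact (D.x_fix_iff h1 m).1 (h _ ⟨_, rfl⟩)
  · rintro h _ ⟨t, rfl⟩
    by_cases ht : t = 1
    · rw [ht, map_one, one_smul]
    · exact (D.x_fix_iff ht m).2 h

theorem dm_P {h : H} (hh : h ∈ D.P) (m : M) : dm h m ∈ D.W := by
  obtain ⟨t, rfl⟩ := hh
  rw [mem_W, dm_apply, map_sub, D.ψ_x]
  simp

theorem P_le_stb : D.P ≤ stb (H := H) D.W := fun h hh =>
  ⟨fun m hm => D.fx_P.ge hm h hh, D.dm_P hh⟩

theorem ea_P : Cfsg.IsElementaryAbelian p D.P := by
  obtain ⟨h1, h2⟩ := Thompson.ea_iff.1 (ea_stb (H := H) D.nsmul_eq_zero D.W)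
  exact Thompson.ea_iff.2 ⟨fun a ha => mem_centralizer_iff.2 fun b hb =>
    mem_centralizer_iff.1 (h1 (D.P_le_stb ha)) b (D.P_le_stb hb), fun a ha => h2 _ (D.P_le_stb ha)⟩

theorem exists_scalar (f : M →+ M) (hf : ∀ (l : ↥D.L) (m : M), f ((l : H) • m) = (l : H) • f m) :
    ∃ c : F, f = D.sc c := by
  set g : (Fin 2 → F) →+ (Fin 2 → F) :=
    D.ψ.toAddMonoidHom.comp (f.comp D.ψ.symm.toAddMonoidHom) with hg
  have hgl : ∀ (A : SL(2, F)) (v : Fin 2 → F),
      g ((A : Matrix (Fin 2) (Fin 2) F).mulVec v) = (A : Matrix (Fin 2) (Fin 2) F).mulVec (g v) := by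
    intro A v
    show D.ψ (f (D.ψ.symm _)) = Matrix.mulVec _ (D.ψ (f (D.ψ.symm v)))
    have h1 : D.ψ.symm ((A : Matrix (Fin 2) (Fin 2) F).mulVec v) =
        (D.ρ.symm A : H) • D.ψ.symm v := D.ψ.injective (by
      rw [D.heq, AddEquiv.apply_symm_apply, AddEquiv.apply_symm_apply, MulEquiv.apply_symm_apply])
    rw [h1, hf, D.heq, MulEquiv.apply_symm_apply]
  have hx : ∀ t a b : F, g ![a + t * b, b] = ![g ![a, b] 0 + t * g ![a, b] 1, g ![a, b] 1] := by
    intro t a b
    have h1 := hgl (Classical.rootHomSL (Multiplicative.ofAdd t)) ![a, b]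
    rw [Classical.rootHomSL_coe] at h1
    have e : ∀ v : Fin 2 → F, (!![1, (Multiplicative.ofAdd t).toAdd; 0, 1]).mulVec v =
        ![v 0 + t * v 1, v 1] := fun v => funext fun i => by
      fin_cases i <;> simp [Matrix.mulVec, dotProduct, Fin.sum_univ_two]
    rw [e, e] at h1
    simpa using h1
  have hadd : ∀ a b : F, g ![a, b] = g ![a, 0] + g ![0, b] := fun a b => by
    rw [← map_add]; congr 1; funext i; fin_cases i <;> simp
  have h10 : ∀ a : F, g ![a, 0] 1 = 0 := by
    intro a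
    have h1 := congrFun (hx 1 0 a) 0
    have h2 := congrFun (hx 1 0 a) 1
    rw [zero_add, one_mul, hadd a a] at h2
    simpa using h2
  set c : F := g ![0, 1] 1 with hc
  have hl : ∀ t : F, g ![t, 0] 0 = t * c := by
    intro t
    have h1 := congrFun (hx t 0 1) 0
    rw [zero_add, mul_one, hadd t 1] at h1
    simp only [Pi.add_apply, Matrix.cons_val_zero] at h1
    linear_combination h1
  have hm : ∀ b : F, g ![0, b] 1 = b * c := by
    intro b
    have h1 := congrFun (hx 1 0 b) 0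
    rw [zero_add, one_mul, hadd b b] at h1
    simp only [Pi.add_apply, Matrix.cons_val_zero, one_mul, hl] at h1
    linear_combination -h1
  have hn : ∀ b : F, g ![0, b] 0 = 0 := by
    intro b
    have h1 := congrFun (hgl ⟨!![0, 1; -1, 0], by simp [Matrix.det_fin_two]⟩ ![0, b]) 1
    have e : ∀ v : Fin 2 → F, (!![0, 1; -1, 0] : Matrix (Fin 2) (Fin 2) F).mulVec v =
        ![v 1, -v 0] := fun v => funext fun i => by
      fin_cases i <;> simp [Matrix.mulVec, dotProduct, Fin.sum_univ_two]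
    simp only [e] at h1
    simp [h10] at h1
    exact h1
  refine ⟨c, AddMonoidHom.ext fun m => D.ψ.injective ?_⟩
  have e : D.ψ (f m) = g ![D.ψ m 0, D.ψ m 1] := by
    show _ = D.ψ (f (D.ψ.symm _))
    congr 2
    rw [eq_comm, D.ψ.symm_apply_eq]
    funext i; fin_cases i <;> rfl
  rw [e, D.ψ_sc, hadd]
  funext i
  fin_cases i
  · simp [hl, hn, mul_comm]
  · simp [h10, hm, mul_comm]

theorem exists_gal {n : H} (hn : n ∈ normalizer (D.L : Set H)) :
    ∃ φ : F ≃+* F, ∀ (c : F) (m : M), n • D.sc c m = D.sc (φ c) (n • m) := by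
  classical
  have key : ∀ c : F, ∃ d : F, ∀ m : M, n • D.sc c m = D.sc d (n • m) := by
    intro c
    obtain ⟨d, hd⟩ := D.exists_scalar ((DistribSMul.toAddMonoidHom M n).comp
      ((D.sc c).comp (DistribSMul.toAddMonoidHom M n⁻¹))) fun l m => by
      have hl : n⁻¹ * (l : H) * n ∈ D.L := (mem_normalizer_iff''.1 hn _).1 l.2
      show n • D.sc c (n⁻¹ • (l : H) • m) = (l : H) • n • D.sc c (n⁻¹ • m)
      rw [show n⁻¹ • (l : H) • m = (⟨_, hl⟩ : ↥D.L).1 • n⁻¹ • m by
          simp only [← mul_smul]; congr 1; group,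
        ← D.smul_sc, ← mul_smul, ← mul_smul]
      congr 1; group
    refine ⟨d, fun m => ?_⟩
    have := DFunLike.congr_fun hd (n • m)
    simpa [inv_smul_smul] using this
  choose φ hφ using key
  have huniq : ∀ {a b : F}, (∀ m : M, D.sc a (n • m) = D.sc b (n • m)) → a = b := fun h =>
    D.sc_injective (AddMonoidHom.ext fun m => by simpa [smul_inv_smul] using h (n⁻¹ • m))
  have hcomp : ∀ a b : F, ∀ m, D.sc (a * b) m = D.sc a (D.sc b m) := fun a b m =>
    D.ψ.injective (by simp [D.ψ_sc, mul_smul])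
  have hadd : ∀ a b : F, ∀ m, D.sc (a + b) m = D.sc a m + D.sc b m := fun a b m =>
    D.ψ.injective (by simp [D.ψ_sc, add_smul])
  let f : F →+* F :=
    { toFun := φ
      map_one' := huniq fun m => by
        rw [← hφ]
        exact D.ψ.injective (by rw [show D.sc 1 m = m from D.ψ.injective (by simp [D.ψ_sc])]; simp [D.ψ_sc])
      map_mul' := fun a b => huniq fun m => by rw [← hφ, hcomp, hφ, hφ, hcomp]
      map_zero' := huniq fun m => by
        rw [← hφ]
        have h0 : ∀ m, D.sc 0 m = 0 := fun m => D.ψ.injective (by simp [D.ψ_sc])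
        rw [h0, h0, smul_zero]
      map_add' := fun a b => huniq fun m => by rw [← hφ, hadd, smul_add, hφ, hφ, hadd] }
  exact ⟨RingEquiv.ofBijective f (Finite.injective_iff_bijective.1 f.injective), hφ⟩

/-- The field automorphism induced by a member of the normalizer. -/
noncomputable def gal : ↥(normalizer (D.L : Set H)) →* (F ≃+* F) :=
  MonoidHom.mk' (fun n => (D.exists_gal n.2).choose) fun a b => RingEquiv.ext fun c =>
    D.sc_injective (AddMonoidHom.ext fun m => by
      have h : ((a * b : ↥(normalizer (D.L : Set H))) : H) • D.sc c (((a : H) * b)⁻¹ • m) = _ :=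
        (D.exists_gal (a * b).2).choose_spec c (((a : H) * b)⁻¹ • m)
      have h2 : ((a : H) * b) • D.sc c (((a : H) * b)⁻¹ • m) =
          D.sc ((D.exists_gal a.2).choose ((D.exists_gal b.2).choose c)) m := by
        rw [mul_smul, (D.exists_gal b.2).choose_spec, (D.exists_gal a.2).choose_spec, ← mul_smul,
          smul_inv_smul]
      have h3 := h2.symm.trans h
      rw [show ((a * b : ↥(normalizer (D.L : Set H))) : H) • ((a : H) * b)⁻¹ • m = m from
        smul_inv_smul ((a : H) * b) m] at h3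
      exact h3.symm)

theorem smul_sc_gal (n : ↥(normalizer (D.L : Set H))) (c : F) (m : M) :
    (n : H) • D.sc c m = D.sc (D.gal n c) ((n : H) • m) :=
  (D.exists_gal n.2).choose_spec c m

theorem coords (n : ↥(normalizer (D.L : Set H))) (hW : ∀ m ∈ D.W, (n : H) • m ∈ D.W) :
    ∃ l e d : F, l ≠ 0 ∧ d ≠ 0 ∧ ∀ m, D.ψ ((n : H) • m) =
      ![D.gal n (D.ψ m 0) * l + D.gal n (D.ψ m 1) * e, D.gal n (D.ψ m 1) * d] := by
  set a := D.ψ ((n : H) • D.ψ.symm ![1, 0]) with ha
  set b := D.ψ ((n : H) • D.ψ.symm ![0, 1]) with hb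
  have ha1 : a 1 = 0 := hW _ (by simp [mem_W])
  have hc : ∀ m, D.ψ ((n : H) • m) =
      ![D.gal n (D.ψ m 0) * a 0 + D.gal n (D.ψ m 1) * b 0, D.gal n (D.ψ m 1) * b 1] := by
    intro m
    have em : m = D.sc (D.ψ m 0) (D.ψ.symm ![1, 0]) + D.sc (D.ψ m 1) (D.ψ.symm ![0, 1]) :=
      D.ψ.injective (funext fun i => by fin_cases i <;> simp [D.ψ_sc])
    conv_lhs => rw [em]
    rw [smul_add, map_add, D.smul_sc_gal, D.smul_sc_gal, D.ψ_sc, D.ψ_sc, ← ha, ← hb]
    funext i
    fin_cases i <;> simp [ha1]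
  refine ⟨a 0, b 0, b 1, fun h0 => ?_, fun h0 => ?_, hc⟩
  · have h1 : a = 0 := funext fun i => by fin_cases i <;> assumption
    rw [ha, map_eq_zero_iff _ D.ψ.injective, smul_eq_zero_iff_eq,
      map_eq_zero_iff _ D.ψ.symm.injective] at h1
    exact one_ne_zero (α := F) (by simpa using congrFun h1 0)
  · set m0 := (n : H)⁻¹ • D.ψ.symm ![0, 1]
    have h1 := congrFun (hc m0) 1
    rw [show (n : H) • m0 = D.ψ.symm ![0, 1] from smul_inv_smul _ _] at h1
    simp [h0] at h1

end Nat2

end Cfsg.Agent.NatOver
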