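import Cfsg.Agent.NatOver.Local
import Cfsg.Agent.NatOver.Bound
import Cfsg.Agent.FFStruct.Struct
import Cfsg.Agent.TransTorus.Prep

/-!
# An overgroup of the Sylow subgroup fixing a vector has nontrivial p-core
-/

set_option autoImplicit false
set_option linter.unusedSectionVars false
set_option linter.style.haveILetI false

namespace Cfsg.Agent.NatOver.Nat2

open Subgroup Matrix FFStruct
open scoped Pointwise MatrixGroups

universe u

variable {F : Type} [Field F] [Fintype F] {H : Type u} [Group H] [Finite H] {M : Type u}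
  [AddCommGroup M] [Finite M] [DistribMulAction H M] [FaithfulSMul H M] {p : ℕ} [Fact p.Prime]
  [CharP F p] (D : Nat2 p F H M)

/-- A minimal overgroup of `S` moving the line but fixing `v` has a nontrivial `p`-core. -/
theorem pCore_ne_bot {X : Subgroup H} (hSX : (D.S : Subgroup H) ≤ X)
    (hout : ¬ X ≤ normalizer (D.P : Set H))
    (hmin : ∀ Y : Subgroup H, (D.S : Subgroup H) ≤ Y → Y ≤ X → Y ≠ X → Y ≤ normalizer (D.P : Set H))
    {v : M} (hv : v ≠ 0) (hvW : v ∈ D.W) (hXv : X ≤ stabV v) : Cfsg.pCore p ↥X ≠ ⊥ := by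
  classical
  intro hQ
  set S1 : Sylow p ↥X := D.S.subtype hSX with hS1
  have hS1c : (S1 : Subgroup ↥X) = (D.S : Subgroup H).subgroupOf X := rfl
  set MX : Subgroup ↥X := (normalizer (D.P : Set H)).subgroupOf X with hMX
  have hMne : MX ≠ ⊤ := fun h => hout (subgroupOf_eq_top.1 h)
  have hSM : (S1 : Subgroup ↥X) ≤ MX := fun s hs => D.S_le_normalizer_P hs
  have hM2 : ∀ Z : Subgroup ↥X, (S1 : Subgroup ↥X) ≤ Z → Z ≠ ⊤ → Z ≤ MX := by
    intro Z hSZ hZ z hz
    refine hmin (Z.map X.subtype) (fun s hs => ⟨⟨s, hSX hs⟩, hSZ hs, rfl⟩) (map_subtype_le _)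
      (fun e => hZ ?_) ⟨z, hz, rfl⟩
    refine map_injective X.subtype_injective ?_
    rw [e, ← MonoidHom.range_eq_map, range_subtype]
  have hn : ¬ (S1 : Subgroup ↥X).Normal := by
    intro hN
    have h1 : (S1 : Subgroup ↥X) ≤ ⊥ := hQ ▸ Core.le_pCore (hN := hN) S1.isPGroup'
    refine D.P_ne_bot ((Subgroup.eq_bot_iff_forall _).2 fun y hy => ?_)
    exact congrArg Subtype.val (mem_bot.1
      (h1 (show (⟨y, hSX (D.P_le_S hy)⟩ : ↥X) ∈ (S1 : Subgroup ↥X) from D.P_le_S hy)))
  obtain ⟨hpm, hMc⟩ := TransTorus.isPMinimal_of S1 hMne hSM hM2 hn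
  haveI : FaithfulSMul ↥X M := ⟨fun {a b} h => Subtype.ext (eq_of_smul_eq_smul fun m : M => h m)⟩
  have hprime : p.Prime := Fact.out
  -- the invariant subgroups of the line
  let Good : AddSubgroup M → Prop := fun U =>
    v ∈ U ∧ U ≤ D.W ∧ (∀ h : ↥X, ∀ m ∈ U, h • m ∈ U) ∧ ∀ h : ↥X, (∀ m, dm h m ∈ U) → h = 1
  have hfam : Good (AddSubgroup.zmultiples v) := by
    have hfix : ∀ h : ↥X, ∀ m ∈ AddSubgroup.zmultiples v, h • m = m := by
      rintro h _ ⟨k, rfl⟩
      show h • (k • v) = k • v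
      rw [show h • (k • v) = k • (h • v) from map_zsmul (DistribSMul.toAddMonoidHom M h) _ _,
        show h • v = v from hXv h.2]
    refine ⟨AddSubgroup.mem_zmultiples v, AddSubgroup.zmultiples_le.2 hvW,
      fun h m hm => by rw [hfix h m hm]; exact hm, fun h hh => ?_⟩
    let K : Subgroup ↥X := stb (AddSubgroup.zmultiples v)
    haveI : K.Normal := ⟨fun y hy g => ⟨fun m hm => hfix _ m hm, fun m => by
      rw [dm_conj, hfix g _ (hy.2 _)]; exact hy.2 _⟩⟩
    have hK : K ≤ Cfsg.pCore p ↥X :=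
      Core.le_pCore (Thompson.ea_isPGroup (ea_stb D.nsmul_eq_zero _))
    rw [hQ] at hK
    exact mem_bot.1 (hK ⟨fun m hm => hfix h m hm, hh⟩)
  obtain ⟨U, ⟨hvU, hUW, hUX, hUK⟩, hmax⟩ := Set.exists_max_image {U : AddSubgroup M | Good U}
    (fun U => Nat.card U) (Set.toFinite _) ⟨_, hfam⟩
  have hUne : U ≠ D.W := by
    intro e
    exact hout fun g hg => D.mem_normalizer_of_smul_W fun m hm => e ▸ hUX ⟨g, hg⟩ m (e.symm ▸ hm)
  letI act : DistribMulAction ↥X (M ⧸ U) := quotMod U hUX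
  have hqs : ∀ (h : ↥X) (m : M), h • (QuotientAddGroup.mk m : M ⧸ U) = QuotientAddGroup.mk (h • m) :=
    fun _ _ => rfl
  haveI : FaithfulSMul ↥X (M ⧸ U) := ⟨fun {a b} h => by
    refine mul_inv_eq_one.1 (hUK (a * b⁻¹) fun m => ?_)
    rw [← QuotientAddGroup.eq_zero_iff, dm_apply, QuotientAddGroup.mk_sub, ← hqs, mul_smul, h,
      smul_inv_smul, sub_self]⟩
  have hpU : ∀ z : M ⧸ U, p • z = 0 := fun z => by
    obtain ⟨m, rfl⟩ := QuotientAddGroup.mk_surjective z
    rw [← QuotientAddGroup.mk_nsmul, D.nsmul_eq_zero, QuotientAddGroup.mk_zero]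
  -- elements fixing the fixed points of the Sylow subgroup
  have hfixS : ∀ h : ↥X, (∀ z ∈ fx (V := M ⧸ U) (S1 : Subgroup ↥X), h • z = z) → h ∈ MX := by
    intro h hh
    by_contra hnot
    let U' : AddSubgroup M :=
      { carrier := {m | ∀ s ∈ (S1 : Subgroup ↥X), dm s m ∈ U}
        zero_mem' := fun s _ => by rw [map_zero]; exact U.zero_mem
        add_mem' := fun {a b} ha hb s hs => by rw [map_add]; exact U.add_mem (ha s hs) (hb s hs)
        neg_mem' := fun {a} ha s hs => by rw [map_neg]; exact U.neg_mem (ha s hs) }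
    have hU'fx : ∀ m : M, m ∈ U' ↔ (QuotientAddGroup.mk m : M ⧸ U) ∈ fx (S1 : Subgroup ↥X) := by
      intro m
      refine forall₂_congr fun s _ => ?_
      rw [hqs, QuotientAddGroup.eq, dm_apply]
      constructor
      · intro h1
        have := U.neg_mem h1
        rwa [neg_sub, sub_eq_add_neg, add_comm] at this
      · intro h1
        have := U.neg_mem h1
        rwa [neg_add, neg_neg, ← sub_eq_add_neg] at this
    let X0 : Subgroup ↥X :=
      { carrier := {g | ∀ m ∈ U', dm g m ∈ U}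
        one_mem' := fun m _ => by rw [dm_apply, one_smul, sub_self]; exact U.zero_mem
        mul_mem' := fun {a b} ha hb m hm => by
          rw [dm_mul]; exact U.add_mem (hUX a _ (hb m hm)) (ha m hm)
        inv_mem' := fun {a} ha m hm => by rw [dm_inv]; exact U.neg_mem (hUX a⁻¹ _ (ha m hm)) }
    have htop : X0 = ⊤ := by
      by_contra hne
      refine hnot (hM2 _ (fun s hs => fun m hm => hm s hs) hne fun m hm => ?_)
      rw [← QuotientAddGroup.eq_zero_iff, dm_apply, QuotientAddGroup.mk_sub, ← hqs,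
        hh _ ((hU'fx m).1 hm), sub_self]
    have hact : ∀ g : ↥X, ∀ m ∈ U', dm g m ∈ U := fun g => htop.ge (mem_top g)
    have hUU' : U ≤ U' := fun m hm s _ => U.sub_mem (hUX s m hm) hm
    have hU'W : U' ≤ D.W := by
      intro m hm
      by_contra hb
      rw [mem_W] at hb
      refine hUne (le_antisymm hUW fun w hw => ?_)
      obtain ⟨t, ht⟩ : ∃ t : F, t * D.ψ m 1 = D.ψ w 0 := ⟨D.ψ w 0 / D.ψ m 1, div_mul_cancel₀ _ hb⟩
      have hxS : D.x (Multiplicative.ofAdd t) ∈ (D.S : Subgroup H) := D.P_le_S ⟨_, rfl⟩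
      have h1 : dm (D.x (Multiplicative.ofAdd t)) m ∈ U :=
        hm ⟨D.x (Multiplicative.ofAdd t), hSX hxS⟩ hxS
      convert h1 using 1
      refine D.ψ.injective (funext fun i => ?_)
      rw [dm_apply, map_sub, D.ψ_x]
      fin_cases i
      · simp [ht]
      · simp [D.mem_W.1 hw]
    have hU'X : ∀ g : ↥X, ∀ m ∈ U', g • m ∈ U' := by
      intro g m hm
      have := U'.add_mem (hUU' (hact g m hm)) hm
      rwa [dm_apply, sub_add_cancel] at this
    have hU'K : ∀ g : ↥X, (∀ m, dm g m ∈ U') → g = 1 := by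
      let K : Subgroup ↥X :=
        { carrier := {g | ∀ m, dm g m ∈ U'}
          one_mem' := fun m => by rw [dm_apply, one_smul, sub_self]; exact U'.zero_mem
          mul_mem' := fun {a b} ha hb m => by
            rw [dm_mul]; exact U'.add_mem (hU'X a _ (hb m)) (ha m)
          inv_mem' := fun {a} ha m => by rw [dm_inv]; exact U'.neg_mem (hU'X a⁻¹ _ (ha m)) }
      haveI : K.Normal := ⟨fun y hy g m => by rw [dm_conj]; exact hU'X g _ (hy _)⟩
      have hexp : ∀ g ∈ K, g ^ p = 1 := by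
        intro g hg
        refine hUK _ fun m => ?_
        have hk : ∀ k : ℕ, dm (g ^ k) m - k • dm g m ∈ U := by
          intro k
          induction k with
          | zero => simp [dm_apply]
          | succ k ih =>
            rw [pow_succ', dm_mul, succ_nsmul]
            have h1 := U.add_mem ih (hact g _ (pow_mem hg k m))
            convert h1 using 1
            simp only [dm_apply]
            abel
        simpa [D.nsmul_eq_zero] using hk p
      have hKp : IsPGroup p K := fun g => ⟨1, Subtype.ext (by simpa using hexp g g.2)⟩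
      have hK : K ≤ Cfsg.pCore p ↥X := Core.le_pCore hKp
      rw [hQ] at hK
      exact fun g hg => mem_bot.1 (hK hg)
    have hle := hmax U' ⟨hUU' hvU, hU'W, hU'X, hU'K⟩
    have heq : U = U' := eq_of_le_of_card_ge_add hUU' hle
    -- but the fixed points are nonzero
    letI : MulAction (S1 : Subgroup ↥X) (M ⧸ U) := inferInstance
    have hdvd : p ∣ Nat.card (M ⧸ U) := by
      have hne : ¬ Subsingleton (M ⧸ U) := fun hs =>
        D.P_ne_bot ((Subgroup.eq_bot_iff_forall _).2 fun y hy => congrArg Subtype.val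
          (eq_of_smul_eq_smul (M := ↥X) (α := M ⧸ U)
            (m₁ := ⟨y, hSX (D.P_le_S hy)⟩) (m₂ := 1) fun z => Subsingleton.elim _ _))
      haveI := not_subsingleton_iff_nontrivial.1 hne
      obtain ⟨z, hz⟩ := exists_ne (0 : M ⧸ U)
      rw [← addOrderOf_eq_prime (hpU z) hz]
      exact addOrderOf_dvd_natCard z
    obtain ⟨z, hz, hz0⟩ := S1.isPGroup'.exists_fixed_point_of_prime_dvd_card_of_fixed_point (M ⧸ U)
      hdvd (a := 0) (fun s => smul_zero s)
    obtain ⟨m, rfl⟩ := QuotientAddGroup.mk_surjective z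
    refine hz0.symm ((QuotientAddGroup.eq_zero_iff m).2 (heq.ge ((hU'fx m).2 fun s hs => ?_)))
    exact hz ⟨s, hs⟩
  have hamb : Amb ↥X (M ⧸ U) p := by
    refine ⟨hpU, hpm, hQ, fun T Z hZ hTZ h hh => ?_⟩
    obtain ⟨g, rfl⟩ := MulAction.exists_smul_eq ↥X S1 T
    have hTc : ((g • S1 : Sylow p ↥X) : Subgroup ↥X) = cj g (S1 : Subgroup ↥X) :=
      Sylow.coe_subgroup_smul
    have hZe : Z = cj g MX := by
      refine (hpm (g • S1)).2.unique ⟨hZ, hTZ⟩ ⟨?_, ?_⟩
      · exact ((MulAut.conj g).mapSubgroup.isCoatom_iff MX).2 hMc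
      · rw [hTc]; exact cj_mono g hSM
    rw [hTc, fx_cj] at hh
    rw [hZe, mem_cj]
    refine hfixS _ fun z hz => ?_
    rw [mul_smul, mul_smul, hh _ (smul_mem_sm hz), inv_smul_smul]
  -- the root group
  set P1 : Subgroup ↥X := D.P.subgroupOf X with hP1
  have hP1e : Cfsg.IsElementaryAbelian p P1 := by
    obtain ⟨h1, h2⟩ := Thompson.ea_iff.1 D.ea_P
    exact Thompson.ea_iff.2 ⟨fun x hx => mem_centralizer_iff.2 fun y hy =>
      Subtype.ext (mem_centralizer_iff.1 (h1 hx) _ hy), fun x hx => Subtype.ext (h2 _ hx)⟩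
  have hP1c : Nat.card P1 = Fintype.card F := by
    rw [hP1, Nat.card_congr (subgroupOfEquivOfLe (D.P_le_S.trans hSX)).toEquiv, D.card_P]
  have hU0 : 1 < Nat.card U := Finite.one_lt_card_iff_nontrivial.2
    ⟨⟨⟨v, hvU⟩, 0, fun e => hv (congrArg Subtype.val e)⟩⟩
  have hVU : Nat.card (M ⧸ U) * Nat.card U = Fintype.card F ^ 2 := by
    rw [← AddSubgroup.card_eq_card_quotient_mul_card_addSubgroup, D.card_M]
  have hbound : Nat.card (M ⧸ U) ≤ Nat.card P1 * Nat.card (fx (V := M ⧸ U) P1) := by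
    have hle : D.W.map (QuotientAddGroup.mk' U) ≤ fx P1 := by
      rintro _ ⟨w, hw, rfl⟩ a ha
      show (a • (QuotientAddGroup.mk w : M ⧸ U)) = _
      rw [hqs]
      exact congrArg _ (D.fx_P.ge hw _ ha)
    refine le_trans ?_ (Nat.mul_le_mul_left _ (card_le_of_le_add hle))
    refine Nat.le_of_mul_le_mul_right (c := Nat.card U) ?_ Nat.card_pos
    rw [hVU, hP1c, mul_assoc, sq]
    refine Nat.mul_le_mul_left _ (le_of_eq ?_)
    rw [← D.card_W]
    have h1 := ((QuotientAddGroup.mk' U).comp D.W.subtype).ker.card_eq_card_quotient_mul_card_addSubgroup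
    rw [Nat.card_congr (QuotientAddGroup.quotientKerEquivRange _).toEquiv] at h1
    rw [h1, AddMonoidHom.range_comp, AddSubgroup.range_subtype]
    congr 1
    refine Nat.card_congr
      { toFun := fun u => ⟨u.1.1, (QuotientAddGroup.eq_zero_iff _).1 u.2⟩
        invFun := fun u => ⟨⟨u.1, hUW u.2⟩, (QuotientAddGroup.eq_zero_iff _).2 u.2⟩
        left_inv := fun u => rfl
        right_inv := fun u => rfl }
  have hP1ne : P1 ≠ ⊥ := by
    rw [Ne, ← card_eq_one, hP1c]; exact (Fintype.one_lt_card (α := F)).ne'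
  obtain ⟨r, E, hE⟩ := hamb.hasSys_of_offender S1 hP1e hP1ne hbound
  have hle : P1 ≤ ⨆ i, E i :=
    hE.offender_le S1.isPGroup' hQ hP1e (fun a ha => D.P_le_S ha) hbound
  have h2 := sq_le_card hE hP1e hle
  rw [hP1c, ← hVU] at h2
  exact absurd (Nat.le_of_mul_le_mul_left (h2.trans (by rw [mul_one])) Nat.card_pos) (by omega)

end Cfsg.Agent.NatOver.Nat2
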